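import Cfsg.Agent.Lib.Bender.Binary.Odd

/-!
# Binary actions over a rank one setting: the stabiliser is `E`

The least intersections of the conjugates of the classes of the stabiliser meet trivially, and three of
them with dependent representatives contradict binarity.
-/

set_option autoImplicit false
set_option linter.unusedSectionVars false
set_option linter.style.haveILetI false

namespace CfsgLib.Bender.Binary

open MulAction CfsgLib.RootSub.Setup CfsgLib.Bender.Suzuki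

variable {G Ω α : Type*} [Group G] [Finite G] [MulAction G Ω] [MulAction G α]
variable {a : Ω} {t : G} {Q E K : Subgroup G} {s r : G}
variable {V : Type*} [AddCommGroup V] (L : Lin a t Q E V) (S : Setting a t Q E K s r)
variable [Finite α] [Finite V] {p : α} (hp : ∀ e ∈ E, e • p = p)

namespace Lin

include L S

/-- The classes fixing the translates of `p` by a set of operators. -/
def interSub (p : α) (T : Set G) : AddSubgroup V where
  carrier := {x | ∀ δ ∈ T, δ ∈ pairStab a t → ∃ u ∈ L.fixSub S p, L.act δ u = x}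
  zero_mem' := fun δ _ hδ => ⟨0, zero_mem _, L.act_zero S hδ⟩
  add_mem' := by
    intro x y hx hy δ hT hδ
    obtain ⟨u, hu, rfl⟩ := hx δ hT hδ
    obtain ⟨v, hv, rfl⟩ := hy δ hT hδ
    exact ⟨u + v, add_mem hu hv, L.act_add S hδ u v⟩
  neg_mem' := by
    intro x hx δ hT hδ
    rw [L.neg_eq S]
    exact hx δ hT hδ

theorem mem_interSub {x : V} {T : Set G} :
    x ∈ L.interSub S p T ↔ ∀ δ ∈ T, δ ∈ pairStab a t → ∃ u ∈ L.fixSub S p, L.act δ u = x := Iff.rfl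

/-- `ν` carries the intersection to the intersection over the translated set. -/
theorem act_interSub {ν : G} (hν : ν ∈ pairStab a t) {T : Set G} (hT : ∀ δ ∈ T, δ ∈ pairStab a t) :
    ((L.interSub S p ((fun δ => ν * δ) '' T) : AddSubgroup V) : Set V) = L.act ν '' (L.interSub S p T : Set V) := by
  ext x
  constructor
  · intro hx
    refine ⟨L.act ν⁻¹ x, fun δ hδ hδD => ?_, ?_⟩
    · obtain ⟨u, hu, e⟩ := hx (ν * δ) ⟨δ, hδ, rfl⟩ (mul_mem hν hδD)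
      refine ⟨u, hu, ?_⟩
      rw [← e, ← L.act_mul S (inv_mem hν) (mul_mem hν hδD), inv_mul_cancel_left]
    · rw [← L.act_mul S hν (inv_mem hν), mul_inv_cancel, L.act_one S]
  · rintro ⟨y, hy, rfl⟩ _ ⟨δ, hδ, rfl⟩ -
    obtain ⟨u, hu, rfl⟩ := hy δ hδ (hT δ hδ)
    exact ⟨u, hu, L.act_mul S hν (hT δ hδ) u⟩

include hp in
theorem fix_translate_iff {δ y : G} (hδ : δ ∈ pairStab a t) (hy : y ∈ Q) :
    y • δ • p = δ • p ↔ ∃ u ∈ L.fixSub S p, L.act δ u = L.π y := by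
  have hc : δ⁻¹ * y * δ ∈ Q := by simpa using conjQ S (inv_mem hδ) hy
  have e : L.π y = L.act δ (L.π (δ⁻¹ * y * δ)) := by
    rw [← L.conj δ hδ _ hc]; congr 1; group
  rw [show y • δ • p = δ • p ↔ (δ⁻¹ * y * δ) • p = p by rw [mul_smul, mul_smul, inv_smul_eq_iff],
    L.fix_iff S hp hc]
  refine ⟨fun h => ⟨_, h, e.symm⟩, ?_⟩
  rintro ⟨u, hu, hue⟩
  rwa [L.act_inj S hδ (e.symm.trans hue.symm)]

include hp in
/-- **A stabiliser inside `Q` lies in `E`.** -/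
theorem mem_E (hQ : ∀ f : G, f • p = p → f ∈ Q) (hB : Bin G α) (hne : ∃ y ∈ Q, y • p ≠ p) {f : G}
    (hf : f • p = p) : f ∈ E := by
  classical
  by_contra hfE
  have hfQ := hQ f hf
  set A := L.fixSub S p with hA
  have hA0 : ∃ x ∈ A, x ≠ 0 := ⟨L.π f, (L.fix_iff S hp hfQ).1 hf, fun h => hfE ((L.zero_iff f hfQ).1 h)⟩
  let P : Set (Set G) := {T | (∀ δ ∈ T, δ ∈ pairStab a t) ∧ T.Nonempty ∧ ∃ x ∈ L.interSub S p T, x ≠ 0}
  have hP1 : ({1} : Set G) ∈ P := by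
    refine ⟨fun δ hδ => hδ ▸ one_mem _, Set.singleton_nonempty 1, ?_⟩
    obtain ⟨x, hx, hx0⟩ := hA0
    exact ⟨x, fun δ hδ _ => ⟨x, hx, by rw [show δ = 1 from hδ, L.act_one S]⟩, hx0⟩
  obtain ⟨T, ⟨hTD, ⟨δ₁, hδ₁⟩, hT0⟩, hmin⟩ := Set.exists_min_image P
    (fun T => (L.interSub S p T : Set V).ncard) (Set.toFinite P) ⟨_, hP1⟩
  set W := L.interSub S p T with hW
  have hWbot : W ≠ ⊥ := by
    obtain ⟨x, hx, hx0⟩ := hT0
    exact fun h => hx0 (AddSubgroup.mem_bot.1 (h ▸ hx))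
  have hWtop : W ≠ ⊤ := by
    intro h
    obtain ⟨y, hy, hyp⟩ := hne
    refine hyp ((L.fix_iff S hp hy).2 ?_)
    obtain ⟨u, hu, e⟩ := (h ▸ AddSubgroup.mem_top (L.act δ₁ (L.π y)) : L.act δ₁ (L.π y) ∈ W) δ₁ hδ₁ (hTD δ₁ hδ₁)
    exact L.act_inj S (hTD δ₁ hδ₁) e ▸ hu
  -- two translates with a common class are equal
  let tr : G → Set G := fun ν => (fun δ => ν * δ) '' T
  have htrD : ∀ ν ∈ pairStab a t, ∀ δ ∈ tr ν, δ ∈ pairStab a t := by
    rintro ν hν _ ⟨δ, hδ, rfl⟩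
    exact mul_mem hν (hTD δ hδ)
  have htr1 : tr 1 = T := by simp [tr]
  have heq : ∀ ν ∈ pairStab a t, ∀ μ ∈ pairStab a t, ∀ x : V, x ≠ 0 → x ∈ L.interSub S p (tr ν) →
      x ∈ L.interSub S p (tr μ) → L.interSub S p (tr ν) = L.interSub S p (tr μ) := by
    intro ν hν μ hμ x hx0 hxν hxμ
    have hcard : ∀ ν' ∈ pairStab a t, (L.interSub S p (tr ν') : Set V).ncard = (W : Set V).ncard :=
      fun ν' hν' => by
        rw [L.act_interSub S hν' hTD, Set.ncard_image_of_injective _ fun u v e => L.act_inj S hν' e]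
    have hU : tr ν ∪ tr μ ∈ P := by
      refine ⟨fun δ hδ => hδ.elim (htrD ν hν δ) (htrD μ hμ δ), ⟨ν * δ₁, Or.inl ⟨δ₁, hδ₁, rfl⟩⟩, x, ?_, hx0⟩
      exact fun δ hδ hδD => hδ.elim (fun h => hxν δ h hδD) (fun h => hxμ δ h hδD)
    have hsub : ∀ ν' ∈ pairStab a t, tr ν' ⊆ tr ν ∪ tr μ →
        (L.interSub S p (tr ν ∪ tr μ) : Set V) = L.interSub S p (tr ν') := fun ν' hν' hs =>
      Set.eq_of_subset_of_ncard_le (fun y hy δ hδ => hy δ (hs hδ)) (by rw [hcard ν' hν']; exact hmin _ hU)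
    exact SetLike.coe_injective ((hsub ν hν Set.subset_union_left).symm.trans (hsub μ hμ Set.subset_union_right))
  -- three translates
  obtain ⟨δ, hδ, ν, hν, x, hx, w, hw, w', hw', hx0, hyW, hxy⟩ := L.spread W hWbot hWtop
  set y := L.act δ w with hy
  have hxT : x ∈ L.interSub S p (tr 1) := by rwa [htr1]
  have hyT : y ∈ L.interSub S p (tr δ) := by
    rw [← SetLike.mem_coe, L.act_interSub S hδ hTD]
    exact ⟨w, hw, rfl⟩
  have hzT : x + y ∈ L.interSub S p (tr ν) := by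
    rw [← SetLike.mem_coe, L.act_interSub S hν hTD, hxy]
    exact ⟨w', hw', rfl⟩
  have h12 : x ∉ L.interSub S p (tr δ) := fun h => hyW (by
    rw [← heq 1 (one_mem _) δ hδ x hx0 hxT h, htr1] at hyT
    exact hyT)
  have hz0 : x + y ≠ 0 := fun h => hyW (by rwa [eq_neg_of_add_eq_zero_right h, L.neg_eq S])
  have h13 : ∀ v, v ∈ W → v ∈ L.interSub S p (tr ν) → v = 0 := by
    intro v hv hv'
    by_contra hv0
    rw [← heq 1 (one_mem _) ν hν v hv0 (by rwa [htr1]) hv', htr1] at hzT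
    exact hyW (by simpa using sub_mem hzT hx)
  obtain ⟨xq, hxq, hπx⟩ := L.surj x
  obtain ⟨zq, hzq, hπz⟩ := L.surj (x + y)
  have hfix : ∀ ν' ∈ pairStab a t, ∀ {v : V} {vq : G}, vq ∈ Q → L.π vq = v → v ∈ L.interSub S p (tr ν') →
      ∀ δ' ∈ tr ν', vq • δ' • p = δ' • p := fun ν' hν' v vq hvq e hv δ' hδ' =>
    (L.fix_translate_iff S hp (htrD ν' hν' δ' hδ') hvq).2 (e ▸ hv δ' hδ' (htrD ν' hν' δ' hδ'))
  let φ : α → α := fun u => if ∃ δ' ∈ tr δ, δ' • p = u then xq • u else u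
  have hφ1 : ∀ δ' ∈ tr 1, φ (δ' • p) = δ' • p := fun δ' h => by
    simp only [φ]
    split_ifs
    · exact hfix 1 (one_mem _) hxq hπx hxT δ' h
    · rfl
  have hφ2 : ∀ δ' ∈ tr δ, φ (δ' • p) = xq • δ' • p := fun δ' h => if_pos ⟨δ', h, rfl⟩
  have hz2 : ∀ δ' ∈ tr δ, zq • δ' • p = xq • δ' • p := fun δ' h => by
    have hq : xq⁻¹ * zq ∈ Q := mul_mem (inv_mem hxq) hzq
    rw [show zq = xq * (xq⁻¹ * zq) by group, mul_smul, hfix δ hδ hq (v := y) (by
      rw [L.mul _ (inv_mem hxq) zq hzq, L.pi_inv S hxq, hπx, hπz, ← add_assoc, L.two S, zero_add]) hyT δ' h]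
  have hφ3 : ∀ δ' ∈ tr ν, φ (δ' • p) = δ' • p := fun δ' h => by
    simp only [φ]
    split_ifs with h'
    · obtain ⟨δ'', h'', e⟩ := h'
      rw [← e, ← hz2 δ'' h'', e]
      exact hfix ν hν hzq hπz hzT δ' h
    · rfl
  let U : Set α := (fun δ' => δ' • p) '' (tr 1 ∪ tr δ ∪ tr ν)
  obtain ⟨g, hg⟩ := hB.ext U φ (by
    rintro _ ⟨d₁, hd₁, rfl⟩ _ ⟨d₂, hd₂, rfl⟩
    have h11 : ∀ d ∈ tr 1, xq • d • p = φ (d • p) := fun d h =>
      (hfix 1 (one_mem _) hxq hπx hxT d h).trans (hφ1 d h).symm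
    have h22 : ∀ d ∈ tr δ, xq • d • p = φ (d • p) := fun d h => (hφ2 d h).symm
    have h2z : ∀ d ∈ tr δ, zq • d • p = φ (d • p) := fun d h => (hz2 d h).trans (hφ2 d h).symm
    have h33 : ∀ d ∈ tr ν, zq • d • p = φ (d • p) := fun d h =>
      (hfix ν hν hzq hπz hzT d h).trans (hφ3 d h).symm
    have h1a : ∀ d ∈ tr 1, (1 : G) • d • p = φ (d • p) := fun d h => (one_smul _ _).trans (hφ1 d h).symm
    have h3a : ∀ d ∈ tr ν, (1 : G) • d • p = φ (d • p) := fun d h => (one_smul _ _).trans (hφ3 d h).symm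
    rcases hd₁ with (h | h) | h <;> rcases hd₂ with (h' | h') | h'
    · exact ⟨1, h1a _ h, h1a _ h'⟩
    · exact ⟨xq, h11 _ h, h22 _ h'⟩
    · exact ⟨1, h1a _ h, h3a _ h'⟩
    · exact ⟨xq, h22 _ h, h11 _ h'⟩
    · exact ⟨xq, h22 _ h, h22 _ h'⟩
    · exact ⟨zq, h2z _ h, h33 _ h'⟩
    · exact ⟨1, h3a _ h, h1a _ h'⟩
    · exact ⟨zq, h33 _ h, h2z _ h'⟩
    · exact ⟨1, h3a _ h, h3a _ h'⟩)
  have hmapU : ∀ d, d ∈ tr 1 ∪ tr δ ∪ tr ν → g • d • p = φ (d • p) := fun d h => hg _ ⟨d, h, rfl⟩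
  have hg1 : ∀ d ∈ tr 1, g • d • p = d • p := fun d h => (hmapU d (Or.inl (Or.inl h))).trans (hφ1 d h)
  have hg3 : ∀ d ∈ tr ν, g • d • p = d • p := fun d h => (hmapU d (Or.inr h)).trans (hφ3 d h)
  have hgQ : g ∈ Q := by
    have hd : δ₁ ∈ tr 1 := by rwa [htr1]
    have h1 : δ₁⁻¹ * g * δ₁ ∈ Q := hQ _ (by rw [mul_smul, mul_smul, hg1 δ₁ hd, inv_smul_smul])
    simpa [mul_assoc] using conjQ S (hTD δ₁ hδ₁) h1
  have hgE : g ∈ E := (L.zero_iff g hgQ).1 (h13 _ (fun d hd hdD =>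
    (L.fix_translate_iff S hp hdD hgQ).1 (hg1 d (by rwa [htr1]))) (fun d hd hdD =>
      (L.fix_translate_iff S hp hdD hgQ).1 (hg3 d hd)))
  refine h12 fun d hd hdD => ?_
  rw [← hπx]
  refine (L.fix_translate_iff S hp hdD hxq).1 ?_
  have h1 := (hmapU d (Or.inl (Or.inr hd))).trans (hφ2 d hd)
  rw [← h1]
  exact (L.fix_translate_iff S hp hdD hgQ).2 ⟨0, zero_mem _, by rw [L.act_zero S hdD, ((L.zero_iff g hgQ).2 hgE)]⟩

end Lin

end CfsgLib.Bender.Binary
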