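import Cfsg.Agent.Lib.Invol.StronglyEmbedded
import Mathlib.GroupTheory.GroupAction.Quotient
import Mathlib.GroupTheory.Sylow
import Mathlib.Data.Set.Card
import Mathlib.GroupTheory.Subgroup.Simple
import Mathlib.GroupTheory.GroupAction.Pointwise

/-!
# Binary actions of a group with one class of involutions

Commuting involutions fix the same points, so the stabiliser of the fixed set of an involution is
strongly embedded.
-/

set_option autoImplicit false
set_option linter.unusedSectionVars false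
set_option linter.style.haveILetI false

namespace CfsgLib.Bender.Binary

open MulAction
open scoped Pointwise

variable {G α : Type*} [Group G] [MulAction G α]

/-- An action is binary when tuples equivalent on pairs of entries are equivalent. -/
def Bin (G α : Type*) [Group G] [MulAction G α] : Prop :=
  ∀ (n : ℕ) (I J : Fin n → α), 2 ≤ n →
    (∀ i j : Fin n, i ≠ j → ∃ g : G, g • I i = J i ∧ g • I j = J j) → ∃ g : G, ∀ i, g • I i = J i

/-- A map realised on every pair of points of a set is realised on the set. -/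
theorem Bin.ext [Finite α] (hB : Bin G α) (U : Set α) (φ : α → α)
    (h : ∀ x ∈ U, ∀ y ∈ U, ∃ g : G, g • x = φ x ∧ g • y = φ y) :
    ∃ g : G, ∀ x ∈ U, g • x = φ x := by
  classical
  rcases U.eq_empty_or_nonempty with rfl | ⟨x₀, hx₀⟩
  · exact ⟨1, fun x hx => absurd hx (Set.notMem_empty x)⟩
  letI := Fintype.ofFinite ↥U
  let e := Fintype.equivFin ↥U
  let f : Fin (Fintype.card ↥U + 2) → ↥U := fun i =>
    if h : (i : ℕ) < Fintype.card ↥U then e.symm ⟨i, h⟩ else ⟨x₀, hx₀⟩
  obtain ⟨g, hg⟩ := hB _ (fun i => (f i : α)) (fun i => φ (f i)) (by omega)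
    fun i j _ => h _ (f i).2 _ (f j).2
  refine ⟨g, fun x hx => ?_⟩
  have hfx : f ⟨e ⟨x, hx⟩, by omega⟩ = ⟨x, hx⟩ := by
    simp only [f, dif_pos (e ⟨x, hx⟩).2, Fin.eta, Equiv.symm_apply_apply]
  have := hg ⟨e ⟨x, hx⟩, by omega⟩
  rwa [hfx] at this

/-- A conjugate moves the fixed set. -/
theorem fixedBy_conj (g x : G) : fixedBy α (g * x * g⁻¹) = g • fixedBy α x := by
  ext z
  rw [Set.mem_smul_set_iff_inv_smul_mem, mem_fixedBy, mem_fixedBy, mul_smul, mul_smul, smul_eq_iff_eq_inv_smul]

theorem ncard_fixedBy_eq (hone : ∀ s t : G, orderOf s = 2 → orderOf t = 2 → IsConj s t) {x y : G}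
    (hx : orderOf x = 2) (hy : orderOf y = 2) : (fixedBy α x).ncard = (fixedBy α y).ncard := by
  obtain ⟨c, hc⟩ := isConj_iff.1 (hone x y hx hy)
  rw [← hc, fixedBy_conj]
  exact (Set.ncard_image_of_injective _ (MulAction.injective c)).symm

section Main

variable [Finite G] [Finite α] (hB : Bin G α) (hone : ∀ s t : G, orderOf s = 2 → orderOf t = 2 → IsConj s t)
include hB hone

/-- An element acting as an involution somewhere has an involution among its powers fixing the points
it fixes. -/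
theorem exists_invol_of_swap {f : G} {x : α} (hx : f • x ≠ x) (hxx : f • f • x = x) :
    ∃ i : G, orderOf i = 2 ∧ ∀ z : α, f • z = z → i • z = z := by
  have heven : Even (orderOf f) := by
    rw [← Nat.not_odd_iff_even]
    rintro ⟨m, hm⟩
    have h2 : ∀ n : ℕ, f ^ (2 * n) • x = x := by
      intro n
      induction n with
      | zero => rw [mul_zero, pow_zero, one_smul]
      | succ n ih => rw [mul_add, pow_add, mul_smul, mul_one, pow_two, mul_smul, hxx, ih]
    refine hx ?_
    have h := pow_orderOf_eq_one f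
    rw [hm, pow_succ'] at h
    conv_lhs => rw [← h2 m, ← mul_smul, h, one_smul]
  refine ⟨f ^ (orderOf f / 2), CfsgLib.Invol.orderOf_pow_half heven, fun z hz => ?_⟩
  exact smul_pow_eq_self_of_smul hz _
where
  smul_pow_eq_self_of_smul {f : G} {z : α} (hz : f • z = z) : ∀ n : ℕ, f ^ n • z = z := by
    intro n
    induction n with
    | zero => rw [pow_zero, one_smul]
    | succ n ih => rw [pow_succ, mul_smul, hz, ih]

theorem fix_or_fix {g h : G} (hg : orderOf g = 2) (hh : orderOf h = 2) (hc : Commute g h) (hne : g ≠ h) :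
    fixedBy α h = fixedBy α g ∨ fixedBy α g = fixedBy α (g * h) := by
  classical
  have hk : orderOf (g * h) = 2 := CfsgLib.Invol.invol_iff.2
    ⟨by rw [mul_assoc, ← mul_assoc h, ← hc.eq, mul_assoc g h h, CfsgLib.Invol.invol_mul_self hh, mul_one,
      CfsgLib.Invol.invol_mul_self hg], fun e => hne ((mul_eq_one_iff_eq_inv.1 e).trans (CfsgLib.Invol.invol_inv hh))⟩
  have hgg := CfsgLib.Invol.invol_mul_self hg
  have hhh := CfsgLib.Invol.invol_mul_self hh
  let φ : α → α := fun z => if h • z = z then g • z else z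
  have hφ1 : ∀ z, g • z = z → φ z = z := fun z hz => by simp only [φ]; split_ifs <;> simp [hz]
  have hφh : ∀ z, h • z = z → φ z = g • z := fun z hz => if_pos hz
  have hφk : ∀ z, (g * h) • z = z → φ z = z := fun z hz => by
    simp only [φ]
    split_ifs with h1
    · rwa [mul_smul, h1] at hz
    · rfl
  obtain ⟨f, hf⟩ := hB.ext (fixedBy α g ∪ fixedBy α (g * h) ∪ fixedBy α h) φ (by
    intro x hx y hy
    have h1 : ∀ z, z ∈ fixedBy α g ∪ fixedBy α (g * h) → φ z = z := fun z hz => hz.elim (hφ1 z) (hφk z)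
    have h2 : ∀ z ∈ fixedBy α g ∪ fixedBy α (g * h), ∀ w ∈ fixedBy α h,
        ∃ f : G, f • z = φ z ∧ f • w = φ w := fun z hz w hw => by
      rw [h1 z hz, hφh w hw]
      rcases hz with hz | hz
      · exact ⟨g, hz, rfl⟩
      · exact ⟨g * h, hz, by rw [mul_smul, show h • w = w from hw]⟩
    rcases hx with hx | hx <;> rcases hy with hy | hy
    · exact ⟨1, by rw [one_smul, h1 x hx], by rw [one_smul, h1 y hy]⟩
    · exact h2 x hx y hy
    · obtain ⟨f, e1, e2⟩ := h2 y hy x hx
      exact ⟨f, e2, e1⟩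
    · exact ⟨g, (hφh x hx).symm, (hφh y hy).symm⟩)
  by_cases hall : ∀ z ∈ fixedBy α h, g • z = z
  · exact Or.inl (Set.eq_of_subset_of_ncard_le (fun z hz => hall z hz) (ncard_fixedBy_eq hone hg hh).le)
  push Not at hall
  obtain ⟨x, hx, hgx⟩ := hall
  have hfx : f • x = g • x := by rw [hf x (Or.inr hx), hφh x hx]
  have hgxh : h • (g • x) = g • x := by rw [← mul_smul, ← hc.eq, mul_smul, show h • x = x from hx]
  have hfgx : f • (g • x) = x := by
    rw [hf _ (Or.inr hgxh), hφh _ hgxh, ← mul_smul, hgg, one_smul]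
  obtain ⟨i, hi, hifix⟩ := exists_invol_of_swap hB hone (f := f) (x := x) (by rwa [hfx]) (by rw [hfx, hfgx])
  have e1 : fixedBy α g = fixedBy α i := Set.eq_of_subset_of_ncard_le
    (fun z hz => hifix z (by rw [hf z (Or.inl (Or.inl hz)), hφ1 z hz])) (ncard_fixedBy_eq hone hi hg).le
  have e2 : fixedBy α (g * h) = fixedBy α i := Set.eq_of_subset_of_ncard_le
    (fun z hz => hifix z (by rw [hf z (Or.inl (Or.inr hz)), hφk z hz])) (ncard_fixedBy_eq hone hi hk).le
  exact Or.inr (e1.trans e2.symm)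

/-- Commuting involutions fix the same points. -/
theorem fixedBy_eq_of_commute {g h : G} (hg : orderOf g = 2) (hh : orderOf h = 2) (hc : Commute g h) :
    fixedBy α g = fixedBy α h := by
  by_cases hne : g = h
  · rw [hne]
  rcases fix_or_fix hB hone hg hh hc hne with h1 | h1
  · exact h1.symm
  rcases fix_or_fix hB hone hh hg hc.symm (Ne.symm hne) with h2 | h2
  · exact h2
  · rw [h1, h2, hc.eq]

/-- An involution `g` with `g • p = x • p` for an involution `x` fixing `p'` fixes `p` or `p'`. -/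
theorem fix_of_product {g x : G} (hg : orderOf g = 2) {p p' : α} (hxp : x • p = g • p)
    (hxxp : x • x • p = p) (hxp' : x • p' = p') : g • p = p ∨ g • p' = p' := by
  classical
  by_contra hcon
  push Not at hcon
  obtain ⟨hp, hp'⟩ := hcon
  have hgg : g • g • p = p := by rw [← mul_smul, CfsgLib.Invol.invol_mul_self hg, one_smul]
  let φ : α → α := fun z => if z = p then g • p else if z = g • p then p else z
  have hne1 : p' ≠ p := fun e => hp (by rw [← hxp, ← e, hxp'])
  have hne2 : p' ≠ g • p := fun e => hp (by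
    rw [e, ← hxp, hxxp] at hxp'
    exact (hxp'.trans hxp).symm)
  have hF : ∀ z, g • z = z → φ z = z := fun z hz => by
    simp only [φ]
    split_ifs with h1 h2
    · exact absurd (h1 ▸ hz) hp
    · exact absurd (show g • p = p by rw [h2, hgg] at hz; exact hz.symm) hp
    · rfl
  have hφp : φ p = g • p := if_pos rfl
  have hφgp : φ (g • p) = p := by simp [φ, hp]
  have hφp' : φ p' = p' := by simp only [φ]; rw [if_neg hne1, if_neg hne2]
  have hgφ : ∀ z ∈ fixedBy α g ∪ {p, g • p}, g • z = φ z := fun z hz => by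
    rcases hz with hz | rfl | rfl
    · exact hz.trans (hF z hz).symm
    · exact hφp.symm
    · rw [hφgp, hgg]
  have hwith : ∀ z ∈ fixedBy α g ∪ {p, g • p}, ∃ f : G, f • z = φ z ∧ f • p' = φ p' := fun z hz => by
    rw [hφp']
    rcases hz with hz | rfl | rfl
    · exact ⟨1, by rw [one_smul, hF z hz], one_smul G p'⟩
    · exact ⟨x, by rw [hφp, hxp], hxp'⟩
    · exact ⟨x, by rw [hφgp, ← hxp, hxxp], hxp'⟩
  obtain ⟨f, hf⟩ := hB.ext (fixedBy α g ∪ {p, g • p} ∪ {p'}) φ (by
    intro z hz w hw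
    rcases hz with hz | rfl <;> rcases hw with hw | rfl
    · exact ⟨g, hgφ z hz, hgφ w hw⟩
    · exact hwith z hz
    · obtain ⟨f, e1, e2⟩ := hwith w hw
      exact ⟨f, e2, e1⟩
    · exact ⟨1, by rw [one_smul, hφp'], by rw [one_smul, hφp']⟩)
  have hfp : f • p = g • p := (hf p (Or.inl (Or.inr (Or.inl rfl)))).trans hφp
  obtain ⟨i, hi, hifix⟩ := exists_invol_of_swap hB hone (f := f) (x := p) (by rwa [hfp])
    (by rw [hfp, hf _ (Or.inl (Or.inr (Or.inr rfl))), hφgp])
  have e : fixedBy α g = fixedBy α i := Set.eq_of_subset_of_ncard_le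
    (fun z hz => hifix z ((hf z (Or.inl (Or.inl hz))).trans (hF z hz))) (ncard_fixedBy_eq hone hi hg).le
  refine hp' (?_ : p' ∈ fixedBy α g)
  rw [e]
  exact hifix p' ((hf p' (Or.inr rfl)).trans hφp')

/-- The involutions in the stabiliser of the fixed set of an involution all fix that set. -/
theorem fixedBy_of_mem {i j : G} (hi : orderOf i = 2) (hj : orderOf j = 2)
    (hjM : j ∈ stabilizer G (fixedBy α i)) : fixedBy α j = fixedBy α i := by
  haveI : Fact (Nat.Prime 2) := ⟨Nat.prime_two⟩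
  set M := stabilizer G (fixedBy α i)
  -- a Sylow subgroup centralising `i`
  obtain ⟨T, hT⟩ : ∃ T : Sylow 2 G, ∀ y ∈ (T : Subgroup G), Commute y i := by
    obtain ⟨T₀⟩ := (inferInstance : Nonempty (Sylow 2 G))
    haveI : Nontrivial ↥(T₀ : Subgroup G) := (Subgroup.nontrivial_iff_ne_bot _).2 (T₀.ne_bot_of_dvd_card
      (hi ▸ orderOf_dvd_natCard i))
    haveI : Nontrivial (Subgroup.center ↥(T₀ : Subgroup G)) := T₀.2.center_nontrivial
    have h2 : 2 ∣ Nat.card (Subgroup.center ↥(T₀ : Subgroup G)) := by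
      obtain ⟨n, hn, e⟩ := (T₀.2.to_subgroup (Subgroup.center ↥(T₀ : Subgroup G))).nontrivial_iff_card.1 inferInstance
      rw [e]; exact dvd_pow_self 2 hn.ne'
    obtain ⟨z, hz⟩ := exists_prime_orderOf_dvd_card' (G := Subgroup.center ↥(T₀ : Subgroup G)) 2 h2
    have hzo : orderOf ((z : ↥(T₀ : Subgroup G)) : G) = 2 := by
      rw [Subgroup.orderOf_coe, Subgroup.orderOf_coe, hz]
    obtain ⟨c, hc⟩ := isConj_iff.1 (hone _ _ hzo hi)
    refine ⟨c • T₀, fun y hy => ?_⟩
    rw [Sylow.coe_subgroup_smul] at hy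
    change y ∈ (T₀ : Subgroup G).map (MulAut.conj c).toMonoidHom at hy
    obtain ⟨y₀, hy₀, rfl⟩ := hy
    rw [← hc]
    refine (Commute.conj_iff c).2 ?_
    exact congrArg Subtype.val (Subgroup.mem_center_iff.1 z.2 ⟨y₀, hy₀⟩)
  have hTM : (T : Subgroup G) ≤ M := fun y hy => by
    rw [MulAction.mem_stabilizer_iff, ← fixedBy_conj, (hT y hy).eq, mul_inv_cancel_right]
  have hp : IsPGroup 2 (Subgroup.zpowers (⟨j, hjM⟩ : M)) := IsPGroup.of_card (n := 1) (by
    rw [pow_one, Nat.card_zpowers, Subgroup.orderOf_mk, hj])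
  obtain ⟨S, hS⟩ := hp.exists_le_sylow
  obtain ⟨m, hm⟩ := exists_smul_eq M S (T.subtype hTM)
  have hmem : (m : G) * j * (m : G)⁻¹ ∈ (T : Subgroup G) := by
    have h1 : m * ⟨j, hjM⟩ * m⁻¹ ∈ ((m • S : Sylow 2 M) : Subgroup M) := by
      rw [Sylow.coe_subgroup_smul]
      exact Subgroup.smul_mem_pointwise_smul _ _ _ (hS (Subgroup.mem_zpowers _))
    rw [hm, Sylow.coe_subtype] at h1
    exact h1
  have h2 := fixedBy_eq_of_commute hB hone (CfsgLib.Invol.invol_conj hj (m : G)) hi (hT _ hmem)
  rw [fixedBy_conj] at h2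
  have h3 : (m : G)⁻¹ • fixedBy α i = fixedBy α i := MulAction.mem_stabilizer_iff.1 (inv_mem m.2)
  rw [← h3, ← h2, inv_smul_smul]

/-- The stabiliser of the fixed set of an involution is strongly embedded. -/
theorem stronglyEmbedded [IsSimpleGroup G] {i : G} (hi : orderOf i = 2) {p : α} (hp : i • p = p)
    (hne : stabilizer G p ≠ ⊤) : Cfsg.IsStronglyEmbedded (stabilizer G (fixedBy α i)) := by
  have hiM : i ∈ stabilizer G (fixedBy α i) := by
    rw [MulAction.mem_stabilizer_iff]
    conv_rhs => rw [← mul_inv_cancel_right i i, fixedBy_conj]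
  have hM : stabilizer G (fixedBy α i) ≠ ⊤ := by
    intro htop
    refine hne (top_le_iff.1 ?_)
    have hN : Subgroup.normalClosure ({i} : Set G) = ⊤ := by
      rcases (Subgroup.normalClosure_normal (s := ({i} : Set G))).eq_bot_or_eq_top with h | h
      · exact absurd (Subgroup.mem_bot.1 (h ▸ Subgroup.subset_normalClosure rfl)) (CfsgLib.Invol.invol_ne_one hi)
      · exact h
    rw [← hN, Subgroup.normalClosure, Subgroup.closure_le]
    intro y hy
    obtain ⟨i', rfl, hy'⟩ := Group.mem_conjugatesOfSet_iff.1 hy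
    obtain ⟨c, rfl⟩ := isConj_iff.1 hy'
    have h1 := fixedBy_of_mem hB hone hi (CfsgLib.Invol.invol_conj hi c) (htop ▸ Subgroup.mem_top _)
    show (c * i' * c⁻¹) • p = p
    rw [← mem_fixedBy, h1]
    exact hp
  refine (CfsgLib.Invol.stronglyEmbedded_iff hM ?_).2 fun t ht hto g hg => ?_
  · exact CfsgLib.Invol.even_card_of_invol_mem hiM hi
  · have h1 := fixedBy_of_mem hB hone hi (CfsgLib.Invol.invol_conj hto g) hg
    rw [fixedBy_conj, fixedBy_of_mem hB hone hi hto ht] at h1
    exact h1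

end Main

end CfsgLib.Bender.Binary
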