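import Cfsg.Agent.Lib.Bender.Binary.Frame

/-!
# The coset actions on the centre of a Sylow two-subgroup are binary
-/

set_option autoImplicit false
set_option linter.unusedSectionVars false
set_option linter.style.haveILetI false

namespace CfsgLib.Bender.Binary

open MulAction CfsgLib.RootSub.Setup CfsgLib.Bender.Suzuki
open scoped Pointwise

universe u

variable {G : Type u} [Group G]

/-- The action is binary when the point stabilisers have exponent two and commuting non-trivial elements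
of them come from equal stabilisers. -/
theorem bin_of_comm {α : Type*} [MulAction G α]
    (h2 : ∀ (q : α) (f : G), f • q = q → f * f = 1)
    (hc : ∀ (q q' : α) (f f' : G), f • q = q → f' • q' = q' → f ≠ 1 → f' ≠ 1 → Commute f f' →
      stabilizer G q = stabilizer G q') : Bin G α := by
  intro n I J hn hpair
  classical
  have hex : ∀ i j, ∃ g : G, g • I i = J i ∧ g • I j = J j := fun i j => by
    by_cases hij : i = j
    · subst hij
      obtain ⟨k, hk⟩ : ∃ k : Fin n, k ≠ i := by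
        haveI : Nontrivial (Fin n) := Fin.nontrivial_iff_two_le.2 hn
        exact exists_ne i
      obtain ⟨g, hg, -⟩ := hpair i k hk.symm
      exact ⟨g, hg, hg⟩
    · exact hpair i j hij
  by_cases hall : ∀ i j, stabilizer G (I i) = stabilizer G (I j)
  · let i₀ : Fin n := ⟨0, by omega⟩
    obtain ⟨f, hf, -⟩ := hex i₀ i₀
    refine ⟨f, fun k => ?_⟩
    obtain ⟨g, hg0, hgk⟩ := hex i₀ k
    have hmem : g⁻¹ * f ∈ stabilizer G (I k) := by
      rw [hall k i₀, mem_stabilizer_iff, mul_smul, hf, ← hg0, inv_smul_smul]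
    rw [mem_stabilizer_iff, mul_smul, inv_smul_eq_iff] at hmem
    rw [hmem, hgk]
  push Not at hall
  obtain ⟨i, j, hij⟩ := hall
  obtain ⟨f, hfi, hfj⟩ := hex i j
  refine ⟨f, fun k => ?_⟩
  obtain ⟨g₀, h0i, h0k⟩ := hex i k
  obtain ⟨g₁, h1j, h1k⟩ := hex j k
  set e₀ := f⁻¹ * g₀ with he0
  set e₁ := f⁻¹ * g₁ with he1
  have h0 : e₀ • I i = I i := by rw [mul_smul, h0i, ← hfi, inv_smul_smul]
  have h1 : e₁ • I j = I j := by rw [mul_smul, h1j, ← hfj, inv_smul_smul]
  have h01 : (e₀⁻¹ * e₁) • I k = I k := by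
    rw [mul_smul, inv_smul_eq_iff, mul_smul, mul_smul, h0k, h1k]
  by_cases hz0 : e₀ = 1
  · rw [he0, inv_mul_eq_one] at hz0
    rw [hz0, h0k]
  by_cases hz1 : e₁ = 1
  · rw [he1, inv_mul_eq_one] at hz1
    rw [hz1, h1k]
  have hi0 : e₀⁻¹ = e₀ := inv_eq_of_mul_eq_one_right (h2 _ _ h0)
  have hi1 : e₁⁻¹ = e₁ := inv_eq_of_mul_eq_one_right (h2 _ _ h1)
  have hcomm : Commute e₀ e₁ := by
    have h3 := h2 _ _ h01
    rw [hi0] at h3
    calc e₀ * e₁ = (e₀ * e₁)⁻¹ := eq_inv_of_mul_eq_one_left h3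
      _ = e₁ * e₀ := by rw [mul_inv_rev, hi0, hi1]
  exact absurd (hc _ _ _ _ h0 h1 hz0 hz1 hcomm) hij

variable [Finite G] [IsSimpleGroup G]

/-- **The converse.** -/
theorem bin_center {M : Subgroup G} (hM : Cfsg.IsStronglyEmbedded M) (P : Sylow 2 G) :
    Bin G (G ⧸ (Subgroup.center (P : Subgroup G)).map (P : Subgroup G).subtype) := by
  obtain ⟨t, Q, E, K, s, r, S, hfaith, ⟨P₀, hP₀⟩, hc⟩ := exists_frame hM
  haveI := hfaith
  subst hP₀
  have hcen := center_eq S hc
  haveI : Fact (Nat.Prime 2) := ⟨Nat.prime_two⟩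
  obtain ⟨c, hcP⟩ := exists_smul_eq G P₀ P
  set Z := (Subgroup.center (P : Subgroup G)).map (P : Subgroup G).subtype
  -- the centre is the conjugate of `E`
  have hPmem : ∀ x, x ∈ (P : Subgroup G) ↔ c⁻¹ * x * c ∈ (P₀ : Subgroup G) := fun x => by
    rw [← hcP, Sylow.coe_subgroup_smul, Subgroup.mem_pointwise_smul_iff_inv_smul_mem, ← map_inv,
      MulAut.smul_def, MulAut.conj_apply, inv_inv]
  have hZ : ∀ x, x ∈ Z ↔ c⁻¹ * x * c ∈ E := fun x => by
    rw [← hcen]
    constructor
    · rintro ⟨⟨y, hy⟩, hyc, rfl⟩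
      refine ⟨⟨c⁻¹ * y * c, (hPmem y).1 hy⟩, Subgroup.mem_center_iff.2 fun z => Subtype.ext ?_, rfl⟩
      have h1 := congrArg Subtype.val (Subgroup.mem_center_iff.1 hyc ⟨c * z * c⁻¹, (hPmem _).2 (by
        rw [show c⁻¹ * (c * (z : G) * c⁻¹) * c = z by group]; exact z.2)⟩)
      have h2 := congrArg (fun u => c⁻¹ * u * c) h1
      show (z : G) * (c⁻¹ * y * c) = c⁻¹ * y * c * z
      simpa [mul_assoc] using h2
    · rintro ⟨⟨y, hy⟩, hyc, (hyx : y = c⁻¹ * x * c)⟩
      refine ⟨⟨x, (hPmem x).2 (hyx ▸ hy)⟩, Subgroup.mem_center_iff.2 fun z => Subtype.ext ?_, rfl⟩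
      have h1 := congrArg Subtype.val (Subgroup.mem_center_iff.1 hyc ⟨c⁻¹ * z * c, (hPmem _).1 z.2⟩)
      have h2 := congrArg (fun u => c * u * c⁻¹) h1
      show (z : G) * x = x * z
      simpa [hyx, mul_assoc] using h2
  have hstab : ∀ (g f : G), f • ((g : G) : G ⧸ Z) = ((g : G) : G ⧸ Z) ↔ (g * c)⁻¹ * f * (g * c) ∈ E := fun g f => by
    rw [MulAction.Quotient.smul_coe, smul_eq_mul, QuotientGroup.eq, ← inv_mem_iff, mul_inv_rev, inv_inv, hZ]
    constructor <;> intro h <;> convert h using 1 <;> group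
  refine bin_of_comm (fun q f hf => ?_) fun q q' f f' hf hf' hf1 hf1' hcomm => ?_
  · obtain ⟨g, rfl⟩ := QuotientGroup.mk_surjective q
    have h := S.base.e_sq _ ((hstab g f).1 hf)
    have h2 := congrArg (fun u => (g * c) * u * (g * c)⁻¹) h
    simpa [mul_assoc] using h2
  · obtain ⟨g, rfl⟩ := QuotientGroup.mk_surjective q
    obtain ⟨g', rfl⟩ := QuotientGroup.mk_surjective q'
    have hE := (hstab g f).1 hf
    have hE' := (hstab g' f').1 hf'
    set a : G ⧸ M := ((1 : G) : G ⧸ M)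
    -- an involution fixes one point
    have key : ∀ (u z : G), u⁻¹ * z * u ∈ E → z ≠ 1 → ∀ b : G ⧸ M, z • b = b → b = u • a := by
      intro u z hz hz1 b hb
      have h1 : (u⁻¹ * z * u) • (u⁻¹ • b) = u⁻¹ • b := by rw [mul_smul, mul_smul, smul_inv_smul, hb]
      have h2 := eq_a_of_fix S.rank (S.base.le hz) (fun e => hz1 (by
        have := congrArg (fun w => u * w * u⁻¹) e
        simpa [mul_assoc] using this)) h1
      rw [← h2, smul_inv_smul]
    have hfa : f • (g * c) • a = (g * c) • a := by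
      have := fix_a S.rank (S.base.le hE)
      rwa [mul_smul, mul_smul, inv_smul_eq_iff] at this
    have hfa' : f • (g' * c) • a = (g' * c) • a := by
      refine key _ f' hE' hf1' _ ?_
      rw [← mul_smul, ← hcomm.eq, mul_smul]
      congr 1
      have := fix_a S.rank (S.base.le hE')
      rwa [mul_smul, mul_smul, inv_smul_eq_iff] at this
    have heq := key _ f hE hf1 _ hfa'
    set m := (g * c)⁻¹ * (g' * c)
    have hm : m • a = a := by rw [mul_smul, heq, inv_smul_smul]
    ext x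
    rw [mem_stabilizer_iff, mem_stabilizer_iff, hstab, hstab]
    constructor
    · intro h
      have := conj_E S (show m⁻¹ • a = a from inv_smul_eq_iff.2 hm.symm) h
      convert this using 1
      simp only [m]; group
    · intro h
      have := conj_E S hm h
      convert this using 1
      simp only [m]; group

end CfsgLib.Bender.Binary
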