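import Cfsg.Agent.Lib.Bender.Binary.Atom
import Cfsg.Agent.Lib.Bender.Suzuki.Recognise
import Cfsg.Agent.Lib.Bender.Suzuki.Mat

/-!
# Binary actions over a rank one setting: a point whose stabiliser meets several components
-/

set_option autoImplicit false
set_option linter.unusedSectionVars false
set_option linter.style.haveILetI false

namespace CfsgLib.Bender.Binary

open MulAction CfsgLib.RootSub.Setup CfsgLib.Bender.Suzuki

variable {G Ω α : Type*} [Group G] [Finite G] [MulAction G Ω] [MulAction G α]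
variable {a : Ω} {t : G} {Q E K : Subgroup G} {s r : G}

/-- The standing hypotheses over a setting. -/
structure Ctx (a : Ω) (t : G) (Q E K : Subgroup G) (s r : G) (α : Type*) [MulAction G α] : Prop where
  set : Setting a t Q E K s r
  bin : Bin G α
  one : ∀ x y : G, orderOf x = 2 → orderOf y = 2 → IsConj x y
  fix_all : ∀ p : α, ∀ e ∈ E, e ≠ 1 → e • p = p → ∀ e' ∈ E, e' • p = p

/-- The conjugate of `E` at the point `y • t • a` fixes `p`. -/
def Comp (t : G) (Q E : Subgroup G) (p : α) (y : G) : Prop :=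
  y ∈ Q ∧ ∀ e ∈ E, (y * t * e * t * y⁻¹) • p = p

theorem conj_E (S : Setting a t Q E K s r) {m e : G} (hm : m • a = a) (he : e ∈ E) : m * e * m⁻¹ ∈ E := by
  refine (S.mem_E _).2 ⟨S.rank.conj_mem m hm e (S.base.le he), ?_⟩
  rw [show m * e * m⁻¹ * (m * e * m⁻¹) = m * (e * e) * m⁻¹ by group, S.base.e_sq e he]
  group

/-- A simple group is generated by `Q` and `t`. -/
theorem qt_top [IsSimpleGroup G] (S : Setting a t Q E K s r) :
    Subgroup.closure ((Q : Set G) ∪ {t}) = ⊤ := by
  have htop : Subgroup.normalClosure ({t} : Set G) = ⊤ := by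
    rcases (Subgroup.normalClosure_normal (s := ({t} : Set G))).eq_bot_or_eq_top with h | h
    · exact absurd (Subgroup.mem_bot.1 (h ▸ Subgroup.subset_normalClosure rfl)) S.rank.ne_one
    · exact h
  rw [eq_top_iff, ← htop, Subgroup.normalClosure, Subgroup.closure_le]
  intro x hx
  obtain ⟨t', rfl, hx'⟩ := Group.mem_conjugatesOfSet_iff.1 hx
  obtain ⟨c, rfl⟩ := isConj_iff.1 hx'
  refine involution_mem_closure S.rank (fun h => S.rank.ne_one (conj_eq_one_iff.1 h)) ?_
  rw [show c * t' * c⁻¹ * (c * t' * c⁻¹) = c * (t' * t') * c⁻¹ by group, S.rank.mul_self]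
  group

namespace Ctx

variable (C : Ctx a t Q E K s r α) {p : α} (hp : ∀ e ∈ E, e • p = p)
include C

theorem t_fix (hp : ∀ e ∈ E, e • p = p) (h1 : Comp t Q E p 1) : t • p = p := by
  have S := C.set
  have hs : (t * s * t) • p = p := by simpa using h1.2 s S.base.s_mem
  have hI : s ∈ Cfsg.involutionsIn (stabilizer G a : Set G) :=
    ⟨S.rank.le S.base.s_memQ, S.base.s_ne, S.base.e_sq s S.base.s_mem⟩
  obtain ⟨k, hk⟩ := odd_mul S.rank hI S.rank.not_mem S.rank.mul_self
  have h2 : ((s * t) ^ 2) • p = p := by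
    rw [show (s * t) ^ 2 = s * (t * s * t) by rw [pow_two]; group, mul_smul, hs, hp s S.base.s_mem]
  have h3 : (s * t) • p = p := by
    have : s * t = ((s * t) ^ 2) ^ (k + 1) := by
      rw [← pow_mul, show 2 * (k + 1) = 2 * k + 1 + 1 by ring, pow_succ _ (2 * k + 1), ← hk, pow_orderOf_eq_one,
        one_mul]
    rw [this]
    exact smul_pow_eq_self_of_smul' h2 _
  rw [mul_smul] at h3
  conv_rhs at h3 => rw [← hp s S.base.s_mem]
  exact smul_left_cancel _ h3
where
  smul_pow_eq_self_of_smul' {f : G} {z : α} (hz : f • z = z) : ∀ n : ℕ, f ^ n • z = z := by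
    intro n
    induction n with
    | zero => rw [pow_zero, one_smul]
    | succ n ih => rw [pow_succ, mul_smul, hz, ih]

/-- The conjugate of `E` at the image of `a` under an element of the stabiliser fixes the point. -/
theorem comp_of_hit (hp : ∀ e ∈ E, e • p = p) {f y : G} (hfp : f • p = p) (hy : y ∈ Q)
    (hfa : f • a = y • t • a) : Comp t Q E p y := by
  have S := C.set
  refine ⟨hy, fun e he => ?_⟩
  set m := t * y⁻¹ * f with hm
  have hma : m • a = a := by rw [hm, mul_smul, hfa, mul_smul, inv_smul_smul, t_t S.rank]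
  have h := conj_E S (show m⁻¹ • a = a from inv_smul_eq_iff.2 hma.symm) he
  rw [inv_inv] at h
  rw [show y * t * e * t * y⁻¹ = f * (m⁻¹ * e * m) * f⁻¹ by
    simp only [hm, mul_inv_rev, inv_inv, t_inv S.rank]; group, mul_smul, mul_smul, inv_smul_eq_iff.2 hfp.symm,
    hp _ h, hfp]

theorem comp_mul_E (hp : ∀ e ∈ E, e • p = p) {y e : G} (h : Comp t Q E p y) (he : e ∈ E) :
    Comp t Q E p (e * y) := by
  refine ⟨mul_mem (C.set.base.le he) h.1, fun e' he' => ?_⟩
  rw [show e * y * t * e' * t * (e * y)⁻¹ = e * (y * t * e' * t * y⁻¹) * e⁻¹ by group, mul_smul, mul_smul,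
    inv_smul_eq_iff.2 (hp e he).symm, h.2 e' he', hp e he]

theorem comp_conj_K {y k : G} (h : Comp t Q E p y) (hk : k ∈ K) (hkp : k • p = p) :
    Comp t Q E p (k * y * k⁻¹) := by
  have S := C.set
  refine ⟨S.base.k_q k hk y h.1, fun e he => ?_⟩
  rw [show k * y * k⁻¹ * t * e * t * (k * y * k⁻¹)⁻¹ = k * (y * t * (k * e * k⁻¹) * t * y⁻¹) * k⁻¹ by
    have h1 : k⁻¹ * t = t * k := by rw [← S.base.t_mul_k hk]
    calc k * y * k⁻¹ * t * e * t * (k * y * k⁻¹)⁻¹ = k * y * (k⁻¹ * t) * e * (k⁻¹ * t)⁻¹ * y⁻¹ * k⁻¹ := by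
          simp only [mul_inv_rev, inv_inv, t_inv S.rank]; group
      _ = _ := by rw [h1, mul_inv_rev, t_inv S.rank]; group,
    mul_smul, mul_smul, inv_smul_eq_iff.2 hkp.symm, h.2 _ (S.base.k_e k hk e he), hkp]

theorem comp_swap (htp : t • p = p) {y y' : G} (h : Comp t Q E p y) (hy' : y' ∈ Q)
    (e0 : t • y • t • a = y' • t • a) : Comp t Q E p y' := by
  have S := C.set
  refine ⟨hy', fun e he => ?_⟩
  set m := t * y'⁻¹ * t * y * t with hm
  have hma : m • a = a := by rw [hm, mul_smul, mul_smul, mul_smul, mul_smul, e0, inv_smul_smul, t_t S.rank]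
  have h' := conj_E S (show m⁻¹ • a = a from inv_smul_eq_iff.2 hma.symm) he
  rw [inv_inv] at h'
  have e1 : y' * t * e * t * y'⁻¹ = t * (y * t * (m⁻¹ * e * m) * t * y⁻¹) * t := by
    simp only [hm, mul_inv_rev, inv_inv, t_inv S.rank]
    simp only [mul_assoc, ← mul_assoc t t, S.rank.mul_self, one_mul, mul_inv_cancel_left, mul_inv_cancel, mul_one]
  rw [e1, mul_smul, mul_smul, htp, h.2 _ h', htp]

theorem not_all_comp [IsSimpleGroup G] (hp : ∀ e ∈ E, e • p = p) (hne : stabilizer G p ≠ ⊤)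
    (hall : ∀ y ∈ Q, Comp t Q E p y) : False := by
  have S := C.set
  have key : ∀ x : G, x ≠ 1 → x * x = 1 → x • p = p := by
    intro x hx1 hx2
    obtain ⟨c, hc⟩ := exists_fixed S.rank hx1 hx2
    have hinE : ∀ {z : G}, z ≠ 1 → z * z = 1 → z • a = a → z ∈ E := fun hz1 hz2 hza =>
      (S.mem_E _).2 ⟨mem_Q_of_sq S.rank hza hz2, hz2⟩
    by_cases hca : c = a
    · exact hp x (hinE hx1 hx2 (hca ▸ hc.1))
    · obtain ⟨y, hy, rfl⟩ := exists_Q S.rank hca
      have h := (hall y hy).2 (t * (y⁻¹ * x * y) * t) (hinE (fun h => hx1 ?_) ?_ ?_)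
      · rwa [show y * t * (t * (y⁻¹ * x * y) * t) * t * y⁻¹ = x by
          simp only [mul_assoc, ← mul_assoc t t, S.rank.mul_self, one_mul, mul_inv_cancel_left, mul_inv_cancel,
            mul_one]] at h
      · have := congrArg (fun u => y * (t * u * t) * y⁻¹) h
        simpa [mul_assoc, ← mul_assoc t t, S.rank.mul_self] using this
      · simp only [mul_assoc, ← mul_assoc t t, S.rank.mul_self, one_mul, mul_inv_cancel_left]
        simp only [← mul_assoc x x, hx2, one_mul, inv_mul_cancel_left, S.rank.mul_self]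
      · rw [mul_smul, mul_smul, mul_smul, mul_smul, hc.1, inv_smul_smul, t_t S.rank]
  refine hne (top_le_iff.1 ?_)
  have htop : Subgroup.normalClosure ({t} : Set G) = ⊤ := by
    rcases (Subgroup.normalClosure_normal (s := ({t} : Set G))).eq_bot_or_eq_top with h | h
    · exact absurd (Subgroup.mem_bot.1 (h ▸ Subgroup.subset_normalClosure rfl)) S.rank.ne_one
    · exact h
  rw [← htop, Subgroup.normalClosure, Subgroup.closure_le]
  intro x hx
  obtain ⟨t', rfl, hx'⟩ := Group.mem_conjugatesOfSet_iff.1 hx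
  obtain ⟨c, rfl⟩ := isConj_iff.1 hx'
  refine key _ (fun h => S.rank.ne_one (conj_eq_one_iff.1 h)) ?_
  rw [show c * t' * c⁻¹ * (c * t' * c⁻¹) = c * (t' * t') * c⁻¹ by group, S.rank.mul_self]
  group

/-- A point with stabiliser off the stabiliser of `a` has a translate fixed by `E` and the conjugate
of `E` by `t`. -/
theorem exists_comp_one (hp : ∀ e ∈ E, e • p = p) {f : G} (hfp : f • p = p) (hfa : f • a ≠ a) :
    ∃ y ∈ Q, (∀ e ∈ E, e • y⁻¹ • p = y⁻¹ • p) ∧ Comp t Q E (y⁻¹ • p) 1 ∧ Comp t Q E p y := by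
  have S := C.set
  obtain ⟨y, hy, e0⟩ := exists_Q S.rank hfa
  have h := C.comp_of_hit hp hfp hy e0.symm
  refine ⟨y, hy, fun e he => ?_, ⟨one_mem Q, fun e he => ?_⟩, h⟩
  · rw [← mul_smul, (S.base.e_comm e he _ (inv_mem hy)).eq, mul_smul, hp e he]
  · have h1 := h.2 e he
    rw [show y * t * e * t * y⁻¹ = y * (t * e * t) * y⁻¹ by group, mul_smul, mul_smul] at h1
    rw [inv_one, mul_one, one_mul]
    exact eq_inv_smul_iff.2 h1

end Ctx

end CfsgLib.Bender.Binary
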