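import Cfsg.Agent.Lib.Bender.Binary.Ctx
import Cfsg.Agent.Lib.Bender.Suzuki.Small

/-!
# Binary actions over a rank one setting: `|Q| = q, q ^ 2`
-/

set_option autoImplicit false
set_option linter.unusedSectionVars false
set_option linter.style.haveILetI false

namespace CfsgLib.Bender.Binary

open MulAction CfsgLib.RootSub.Setup CfsgLib.Bender.Suzuki
open CfsgLib.RootInvol.OddPartner (cj)

universe u

variable {G : Type u} {Ω α : Type*} [Group G] [Finite G] [MulAction G Ω] [MulAction G α] [Finite α]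
variable {a : Ω} {t : G} {Q E K : Subgroup G} {s r : G}
variable [IsSimpleGroup G]

theorem mem_K_of_pair (S : Setting a t Q E K s r) (h : Nat.card Q = Nat.card E ∨ Nat.card Q = Nat.card E ^ 2)
    {δ : G} (hδ : δ ∈ Suzuki.pairStab a t) : δ ∈ K :=
  S.fix_pair (S.big_small h) (by rw [show qtGroup t Q = ⊤ from qt_top S]; exact Subgroup.mem_top δ) hδ.1 hδ.2

/-- The coordinates for `|Q| = q ^ 2`. -/
theorem exists_lin_sq (S : Setting a t Q E K s r) (h : Nat.card Q = Nat.card E ^ 2) :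
    ∃ (V : Type u) (_ : AddCommGroup V) (_ : Finite V), (∃ x : V, x ≠ 0) ∧ Nonempty (Lin a t Q E V) := by
  classical
  have hr := S.not_r_mem_of_sq h
  haveI hn : (E.subgroupOf Q).Normal := ⟨fun e he y => by
    rw [Subgroup.mem_subgroupOf] at he ⊢
    rw [Subgroup.coe_mul, Subgroup.coe_mul, Subgroup.coe_inv, ← (S.base.e_comm _ he _ y.2).eq, mul_inv_cancel_right]
    exact he⟩
  have hsq : ∀ x : Q ⧸ E.subgroupOf Q, x * x = 1 := fun x => by
    obtain ⟨g, rfl⟩ := QuotientGroup.mk_surjective x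
    exact (QuotientGroup.eq_one_iff (g * g)).2 (Subgroup.mem_subgroupOf.2 (S.base.q_sq g g.2))
  letI : CommGroup (Q ⧸ E.subgroupOf Q) := CommGroup.mk (fun x y => by
    calc x * y = (x * y)⁻¹ := (inv_eq_of_mul_eq_one_left (hsq _)).symm
      _ = y * x := by rw [mul_inv_rev, inv_eq_of_mul_eq_one_left (hsq x), inv_eq_of_mul_eq_one_left (hsq y)])
  let π : G → Additive (Q ⧸ E.subgroupOf Q) := fun y =>
    if hy : y ∈ Q then Additive.ofMul (QuotientGroup.mk (⟨y, hy⟩ : Q)) else 0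
  have hπ : ∀ y, ∀ hy : y ∈ Q, π y = Additive.ofMul (QuotientGroup.mk (⟨y, hy⟩ : Q)) := fun y hy => dif_pos hy
  have hmul : ∀ y ∈ Q, ∀ z ∈ Q, π (y * z) = π y + π z := fun y hy z hz => by
    rw [hπ y hy, hπ z hz, hπ _ (mul_mem hy hz)]
    rfl
  have hzero : ∀ y ∈ Q, π y = 0 ↔ y ∈ E := fun y hy => by
    rw [hπ y hy]
    exact (QuotientGroup.eq_one_iff _).trans Subgroup.mem_subgroupOf
  have hsurj : ∀ x, ∃ y ∈ Q, π y = x := fun x => by
    obtain ⟨y, hy⟩ := QuotientGroup.mk_surjective (Additive.toMul x)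
    exact ⟨y, y.2, by rw [hπ y y.2]; exact congrArg Additive.ofMul hy⟩
  choose sec hsecQ hsec using hsurj
  have hcQ : ∀ δ ∈ Suzuki.pairStab a t, ∀ y ∈ Q, δ * y * δ⁻¹ ∈ Q := fun δ hδ y hy => S.rank.conj_mem δ hδ.1 y hy
  let act : G → Additive (Q ⧸ E.subgroupOf Q) → Additive (Q ⧸ E.subgroupOf Q) := fun δ x => π (δ * sec x * δ⁻¹)
  have hconj : ∀ δ ∈ Suzuki.pairStab a t, ∀ y ∈ Q, π (δ * y * δ⁻¹) = act δ (π y) := fun δ hδ y hy => by
    have he : (sec (π y))⁻¹ * y ∈ E := by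
      have key : ∀ z ∈ Q, π z = π y → z⁻¹ * y ∈ E := fun z hz e => by
        rw [← hzero _ (mul_mem (inv_mem hz) hy), hmul _ (inv_mem hz) y hy, ← e, ← hmul _ (inv_mem hz) z hz,
          inv_mul_cancel]
        exact (hzero 1 (one_mem Q)).2 (one_mem E)
      exact key _ (hsecQ _) (hsec _)
    rw [show δ * y * δ⁻¹ = δ * sec (π y) * δ⁻¹ * (δ * ((sec (π y))⁻¹ * y) * δ⁻¹) by group,
      hmul _ (hcQ δ hδ _ (hsecQ _)) _ (hcQ δ hδ _ (S.base.le he)),
      (hzero _ (hcQ δ hδ _ (S.base.le he))).2 (conj_E S hδ.1 he), add_zero]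
  have hcomm : ∀ δ ∈ Suzuki.pairStab a t, ∀ ν ∈ Suzuki.pairStab a t, Commute δ ν := fun δ hδ ν hν =>
    S.base.k_comm δ (mem_K_of_pair S (Or.inr h) hδ) ν (mem_K_of_pair S (Or.inr h) hν)
  have hfpf : ∀ δ ∈ Suzuki.pairStab a t, δ ≠ 1 → ∀ x, act δ x = x → x = 0 := fun δ hδ hδ1 x hx => by
    have hy := hsecQ x
    have h1 : π (δ * sec x * δ⁻¹ * (sec x)⁻¹) = 0 := by
      rw [hmul _ (hcQ δ hδ _ hy) _ (inv_mem hy), show π (δ * sec x * δ⁻¹) = x from hx]
      nth_rewrite 1 [← hsec x]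
      rw [← hmul _ hy _ (inv_mem hy), mul_inv_cancel]
      exact (hzero 1 (one_mem Q)).2 (one_mem E)
    have h2 := S.base.fpf δ (mem_K_of_pair S (Or.inr h) hδ) hδ1 (sec x) hy
      ((hzero _ (mul_mem (hcQ δ hδ _ hy) (inv_mem hy))).1 h1)
    rw [← hsec x, (hzero _ hy).2 h2]
  have hrQ := S.base.r_mem
  have hcls : ∀ x, x ≠ 0 → ∃ δ ∈ Suzuki.pairStab a t, act δ (π r) = x := fun x hx => by
    obtain ⟨k, hk, e, he, hxe⟩ := S.base.exists_class hr h (sec x) (hsecQ x)
      (fun hE => hx (by rw [← hsec x, (hzero _ (hsecQ x)).2 hE]))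
    refine ⟨k, S.mem_pair hk, ?_⟩
    rw [← hconj k (S.mem_pair hk) r hrQ, ← hsec x, hxe]
    show π (k * r * k⁻¹) = π (k * r * k⁻¹ * e)
    rw [hmul _ (S.base.k_q k hk r hrQ) e (S.base.le he),
      (hzero e (S.base.le he)).2 he, add_zero]
  have hr0 : π r ≠ 0 := fun e => hr ((hzero r hrQ).1 e)
  refine ⟨Additive (Q ⧸ E.subgroupOf Q), inferInstance, inferInstanceAs (Finite (Q ⧸ E.subgroupOf Q)),
    ⟨π r, hr0⟩, ⟨⟨π, act, hmul, hzero, fun x => ⟨sec x, hsecQ x, hsec x⟩, hconj, hcomm, hfpf, ?_⟩⟩⟩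
  intro W hbot htop
  obtain ⟨x, hxW, hx0⟩ : ∃ x ∈ W, x ≠ 0 := by
    by_contra hc
    push Not at hc
    exact hbot ((AddSubgroup.eq_bot_iff_forall _).2 hc)
  obtain ⟨y, hy⟩ : ∃ y, y ∉ W := by
    by_contra hc
    push Not at hc
    exact htop (eq_top_iff.2 fun v _ => hc v)
  have hcompose : ∀ u v, u ≠ 0 → v ≠ 0 → ∃ δ ∈ Suzuki.pairStab a t, act δ u = v := fun u v hu hv => by
    obtain ⟨δ, hδ, e1⟩ := hcls u hu
    obtain ⟨ν, hν, e2⟩ := hcls v hv
    refine ⟨ν * δ⁻¹, mul_mem hν (inv_mem hδ), ?_⟩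
    rw [← e1, ← e2, ← hconj δ hδ r hrQ, ← hconj _ (mul_mem hν (inv_mem hδ)) _ (hcQ δ hδ r hrQ), ← hconj ν hν r hrQ]
    congr 1
    group
  have hy0 : y ≠ 0 := fun e => hy (e ▸ zero_mem W)
  have hz0 : x + y ≠ 0 := fun e => hy (by rw [← neg_eq_of_add_eq_zero_right e]; exact neg_mem hxW)
  obtain ⟨δ, hδ, e1⟩ := hcompose x y hx0 hy0
  obtain ⟨ν, hν, e2⟩ := hcompose x (x + y) hx0 hz0
  exact ⟨δ, hδ, ν, hν, x, hxW, x, hxW, x, hxW, hx0, by rwa [e1], by rw [e1, e2]⟩

/-- **The small cases.** -/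
theorem Ctx.small_stab (C : Ctx a t Q E K s r α) (h : Nat.card Q = Nat.card E ∨ Nat.card Q = Nat.card E ^ 2)
    {p : α} (hp : ∀ e ∈ E, e • p = p) (hne : stabilizer G p ≠ ⊤) {f : G} (hf : f • p = p) : f ∈ E := by
  have S := C.set
  have hM : ∀ g : G, g • p = p → g • a = a := by
    intro g hg
    by_contra hga
    obtain ⟨y, hy, hp', h1, -⟩ := C.exists_comp_one hp hg hga
    have htp := C.t_fix hp' h1
    refine C.not_all_comp hp' ?_ fun z hz => ?_
    · intro e
      refine hne (top_le_iff.1 fun x _ => ?_)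
      have h2 : (y⁻¹ * x * y) • y⁻¹ • p = y⁻¹ • p := (e ▸ Subgroup.mem_top _ : (y⁻¹ * x * y) ∈ stabilizer G (y⁻¹ • p))
      rw [mul_smul, mul_smul, smul_inv_smul] at h2
      exact smul_left_cancel _ h2
    · by_cases hzE : z ∈ E
      · simpa using C.comp_mul_E hp' h1 hzE
      rcases h with h | h
      · exact absurd ((Subgroup.eq_of_le_of_card_ge S.base.le h.le).symm ▸ hz) hzE
      · have hr := S.not_r_mem_of_sq h
        obtain ⟨k, hk, e, he, rfl⟩ := S.base.exists_class hr h z hz hzE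
        obtain ⟨hgQ, hh, hfQ, etri⟩ := S.base.tri_cj_s (inv_mem hk)
        have hc : Comp t Q E (y⁻¹ • p) (cj k⁻¹ s) := by
          simpa using C.comp_mul_E hp' h1 (S.base.cj_memE (inv_mem hk) S.base.s_mem)
        have h2 := C.comp_swap htp hc hgQ (by
          rw [← mul_smul, ← mul_smul, etri, mul_smul, mul_smul, mul_smul, fix_a S.rank hfQ, (S.K_fix hh).2])
        rw [inv_inv] at h2
        have hkr := S.base.cj_memQ hk S.base.r_mem
        have h3 := C.comp_mul_E hp' h2 (mul_mem he (S.base.q_sq _ hkr))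
        rwa [show e * (cj k r * cj k r) * (cj k r)⁻¹ = cj k r * e by
          rw [← mul_assoc, mul_inv_cancel_right, (S.base.e_comm e he _ hkr).eq]] at h3
  rcases h with h | h
  · obtain ⟨z, hz, δ, hδ, rfl⟩ := Lin.decompM S (hM f hf)
    obtain rfl : E = Q := Subgroup.eq_of_le_of_card_ge S.base.le h.le
    suffices hδ1 : δ = 1 by rwa [hδ1, mul_one]
    by_contra hδ1
    have hK := mem_K_of_pair S (Or.inl h) hδ
    have hδp : δ • p = p := by
      rw [mul_smul] at hf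
      conv_rhs at hf => rw [← hp z hz]
      exact smul_left_cancel _ hf
    set x := t * δ with hx
    have hinv := S.base.inv δ hK
    have hx2 : x * x = 1 := by
      rw [hx, show t * δ * (t * δ) = t * δ * t * δ by group, hinv, inv_mul_cancel]
    have hx1 : x ≠ 1 := fun e => S.rank.not_mem (by
      rw [eq_inv_of_mul_eq_one_left e]
      exact Subgroup.inv_mem _ hδ.1)
    obtain ⟨c, hc⟩ := CfsgLib.RootSub.Setup.exists_fixed S.rank hx1 hx2
    haveI : IsPretransitive G Ω := by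
      haveI := S.rank.two_transitive
      exact isPretransitive_of_is_two_pretransitive
    obtain ⟨g, hg⟩ := exists_smul_eq G a c
    have hxg : (g⁻¹ * x * g) • a = a := by rw [mul_smul, mul_smul, hg, hc.1, inv_smul_eq_iff, hg]
    have hx2' : g⁻¹ * x * g * (g⁻¹ * x * g) = 1 := by
      rw [show g⁻¹ * x * g * (g⁻¹ * x * g) = g⁻¹ * (x * x) * g by group, hx2]; group
    have hxE : g⁻¹ * x * g ∈ E := mem_Q_of_sq S.rank hxg hx2'
    have hxgp : x • g • p = g • p := by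
      have := hp _ hxE
      rwa [mul_smul, mul_smul, inv_smul_eq_iff] at this
    have hto : orderOf t = 2 := orderOf_eq_prime (by rw [pow_two, S.rank.mul_self]) S.rank.ne_one
    have hxp : x • p = t • p := by rw [hx, mul_smul, hδp]
    rcases fix_of_product C.bin C.one hto (p' := g • p) hxp (by rw [← mul_smul, hx2, one_smul]) hxgp with h1 | h1
    · exact ta_ne S.rank (hM t h1)
    · have htg : (g⁻¹ * t * g) • a = a := hM _ (by rw [mul_smul, mul_smul, h1, inv_smul_smul])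
      have htE : g⁻¹ * t * g ∈ E := mem_Q_of_sq S.rank htg (by
        rw [show g⁻¹ * t * g * (g⁻¹ * t * g) = g⁻¹ * (t * t) * g by group, S.rank.mul_self]; group)
      have hcomm := S.base.e_comm _ htE _ hxE
      have hδ2 : δ * δ = 1 := by
        have e1 : t * x = x * t := by
          have := (Commute.conj_iff g).2 hcomm
          simpa [mul_assoc] using this.eq
        rw [hx, ← mul_assoc, S.rank.mul_self, one_mul, mul_assoc, show δ * t = t * δ⁻¹ by
          rw [S.base.t_mul_k (inv_mem hK), inv_inv], ← mul_assoc, S.rank.mul_self, one_mul] at e1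
        exact mul_eq_one_iff_eq_inv.2 e1
      refine hδ1 ?_
      obtain ⟨m, hm⟩ := S.rank.odd_card
      have hpow : δ ^ (2 * m + 1) = 1 := by
        rw [← hm]
        exact orderOf_dvd_iff_pow_eq_one.1 (Subgroup.orderOf_dvd_natCard _ hδ)
      rwa [pow_succ, pow_mul, pow_two, hδ2, one_pow, one_mul] at hpow
  · obtain ⟨V, _, _, hne', ⟨L⟩⟩ := exists_lin_sq S h
    exact L.mem_E S hp (fun g hg => L.mem_Q S hp hM C.bin hne' hg) C.bin (L.not_Q_fix S hp hM C.bin hne') hf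

end CfsgLib.Bender.Binary
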