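import Cfsg.Agent.Lib.Bender.Binary.Unital
import Cfsg.Agent.Lib.Bender.Binary.Small

/-!
# Binary actions over a rank one setting: `|Q| = q ^ 3`

A stabiliser meeting the components of two points meets those of their line only, and an element of the
torus of the line then contradicts binarity.
-/

set_option autoImplicit false
set_option linter.unusedSectionVars false
set_option linter.style.haveILetI false

namespace CfsgLib.Bender.Binary

open MulAction CfsgLib.RootSub.Setup CfsgLib.Bender.Suzuki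

variable {G Ω α : Type*} [Group G] [Finite G] [MulAction G Ω] [MulAction G α] [Finite α]
variable {a : Ω} {t : G} {Q E K : Subgroup G} {s r : G}
variable [IsSimpleGroup G]

/-- The unital coordinates. -/
theorem exists_uco [FaithfulSMul G Ω] (S : Cubic a t Q E K s r) :
    ∃ (F : Type) (_ : Field F) (_ : Finite F) (_ : CharP F 2) (C : EField E K s F) (φ : F × F → G),
      UCo a t Q C φ := by
  obtain ⟨F, i₁, i₂, i₃, C, -⟩ := S.toSetting.exists_efield
  obtain ⟨p, w, hw⟩ := (S.lineFacts C.card_E).exists_kernel S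
  obtain ⟨D⟩ := Cubic.exists_coords C S hw
  obtain ⟨QC, hact⟩ := S.exists_unital hw D
  refine ⟨F, i₁, i₂, i₃, C, QC.φ, ⟨QC.mem, QC.inj, QC.surj, QC.mul, QC.phi_E, QC.conj_K, hact,
    w, (Subgroup.mem_inf.1 hw.mem).1, QC.ζ, fun e => ?_, QC.ζ_bar, QC.conj_w⟩⟩
  rw [QC.ζ_bar] at e
  have h0 : QC.ζ ≠ 0 := fun h0 => by
    have := QC.ζ_order
    rw [h0, orderOf_zero] at this
    have := hw.prime.ne_zero
    omega
  have h1 : QC.ζ ^ 2 = 1 := by
    rw [pow_two]
    nth_rewrite 1 [← e]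
    exact inv_mul_cancel₀ h0
  have h2 := orderOf_dvd_of_pow_eq_one h1
  rw [QC.ζ_order] at h2
  have := Nat.le_of_dvd two_pos h2
  have := hw.three_le
  omega

variable {F : Type} [Field F] [CharP F 2] {C : EField E K s F} {φ : F × F → G}

/-- The classes of `Q` as the first coordinates. -/
theorem exists_lin_cubic [Finite F] (S : Setting a t Q E K s r) (U : UCo a t Q C φ) :
    ∃ L : Lin a t Q E F, ∀ z ∈ Unital.Pts C.bar, L.π (φ z) = z.1 := by
  classical
  choose co hco hφ using U.surj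
  let π : G → F := fun y => if hy : y ∈ Q then (co y hy).1 else 0
  have hπ : ∀ z, z ∈ Unital.Pts C.bar → π (φ z) = z.1 := fun z hz => by
    simp only [π, dif_pos (U.mem z hz)]
    rw [U.inj (hco _ _) hz (hφ _ _)]
  have hmul : ∀ y ∈ Q, ∀ z ∈ Q, π (y * z) = π y + π z := fun y hy z hz => by
    obtain ⟨u, hu, rfl⟩ := U.surj y hy
    obtain ⟨v, hv, rfl⟩ := U.surj z hz
    rw [← U.mul u hu v hv, hπ _ (pts_pm hu hv), hπ u hu, hπ v hv]
    rfl
  have hzero : ∀ y ∈ Q, π y = 0 ↔ y ∈ E := fun y hy => by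
    obtain ⟨u, hu, rfl⟩ := U.surj y hy
    rw [hπ u hu]
    constructor
    · intro h
      have hu2 : C.bar u.2 = u.2 := by
        rw [pts_iff, h, map_zero, mul_zero, CharTwo.add_eq_zero] at hu
        exact hu.symm
      obtain ⟨e, he, hee⟩ := C.eps_surj u.2 hu2
      rwa [show u = (0, C.eps e) from Prod.ext h hee.symm, U.phi_E e he]
    · intro h
      have hp : ((0, C.eps (φ u)) : F × F) ∈ Unital.Pts C.bar := by
        rw [pts_iff, C.eps_fix _ h]
        simp [CharTwo.add_self_eq_zero]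
      rw [U.inj hu hp (U.phi_E _ h).symm]
  have hsurj : ∀ x : F, ∃ y ∈ Q, π y = x := fun x => by
    obtain ⟨w, hw⟩ := exists_pts C x
    exact ⟨φ (x, w), U.mem _ hw, hπ _ hw⟩
  choose μ hμ hμ1 using fun (δ : G) (hδ : δ ∈ Suzuki.pairStab a t) => U.exists_scalar S hδ
  let act : G → F → F := fun δ x => if hδ : δ ∈ Suzuki.pairStab a t then μ δ hδ * x else 0
  have hact : ∀ δ (hδ : δ ∈ Suzuki.pairStab a t) (x : F), act δ x = μ δ hδ * x := fun δ hδ x => by
    simp only [act, dif_pos hδ]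
  have hconj : ∀ δ ∈ Suzuki.pairStab a t, ∀ y ∈ Q, π (δ * y * δ⁻¹) = act δ (π y) := fun δ hδ y hy => by
    obtain ⟨u, hu, rfl⟩ := U.surj y hy
    obtain ⟨v, hv, e, e1⟩ := hμ δ hδ u hu
    rw [e, hπ v hv, hπ u hu, hact δ hδ, e1]
  obtain ⟨y₁, hy₁, hy₁1⟩ := hsurj 1
  have hμeq : ∀ δ (hδ : δ ∈ Suzuki.pairStab a t), π (δ * y₁ * δ⁻¹) = μ δ hδ := fun δ hδ => by
    rw [hconj δ hδ y₁ hy₁, hact δ hδ, hy₁1, mul_one]
  have hQ : ∀ δ ∈ Suzuki.pairStab a t, ∀ y ∈ Q, δ * y * δ⁻¹ ∈ Q := fun δ hδ y hy => S.rank.conj_mem δ hδ.1 y hy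
  have hμmul : ∀ δ (hδ : δ ∈ Suzuki.pairStab a t) ν (hν : ν ∈ Suzuki.pairStab a t),
      μ (δ * ν) (mul_mem hδ hν) = μ δ hδ * μ ν hν := fun δ hδ ν hν => by
    rw [← hμeq, show δ * ν * y₁ * (δ * ν)⁻¹ = δ * (ν * y₁ * ν⁻¹) * δ⁻¹ by group,
      hconj δ hδ _ (hQ ν hν y₁ hy₁), hact δ hδ, hμeq ν hν]
  have hcomm : ∀ δ ∈ Suzuki.pairStab a t, ∀ ν ∈ Suzuki.pairStab a t, Commute δ ν := fun δ hδ ν hν => by
    have h1 : (ν * δ)⁻¹ * (δ * ν) = 1 := by
      refine hμ1 _ (mul_mem (inv_mem (mul_mem hν hδ)) (mul_mem hδ hν)) ?_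
      have h0 : μ 1 (one_mem _) = 1 := by rw [← hμeq, one_mul, inv_one, mul_one, hy₁1]
      have h2 := hμmul _ (inv_mem (mul_mem hν hδ)) _ (mul_mem hν hδ)
      simp only [inv_mul_cancel, h0] at h2
      rw [hμmul _ (inv_mem (mul_mem hν hδ)) _ (mul_mem hδ hν), hμmul δ hδ ν hν, mul_comm (μ δ hδ),
        ← hμmul ν hν δ hδ]
      exact h2.symm
    exact (inv_mul_eq_one.1 h1).symm
  have hfpf : ∀ δ ∈ Suzuki.pairStab a t, δ ≠ 1 → ∀ x, act δ x = x → x = 0 := fun δ hδ hδ1 x hx => by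
    by_contra hx0
    rw [hact δ hδ] at hx
    exact hδ1 (hμ1 δ hδ ((mul_eq_right₀ hx0).1 hx))
  have hK : ∀ l : F, C.bar l = l → l ≠ 0 → ∃ δ ∈ Suzuki.pairStab a t, ∀ x, act δ x = l * x := by
    intro l hl hl0
    obtain ⟨k, hk, rfl⟩ := C.lam_surj l hl hl0
    refine ⟨k, S.mem_pair hk, fun x => ?_⟩
    obtain ⟨w, hw⟩ := exists_pts C x
    have hk2 : (C.lam k * x, C.lam k ^ 2 * w) ∈ Unital.Pts C.bar := by
      rw [pts_iff] at hw ⊢
      simp only [map_mul, map_pow, hl] at hw ⊢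
      linear_combination (C.lam k ^ 2) * hw
    have h1 := hconj k (S.mem_pair hk) _ (U.mem _ hw)
    rw [U.conj_K k hk _ hw, hπ _ hk2, hπ _ hw] at h1
    exact h1.symm
  refine ⟨⟨π, act, hmul, hzero, hsurj, hconj, hcomm, hfpf, ?_⟩, hπ⟩
  intro W hbot htop
  obtain ⟨x, hxW, hx0⟩ : ∃ x ∈ W, x ≠ 0 := by
    by_contra hc
    push Not at hc
    exact hbot ((AddSubgroup.eq_bot_iff_forall _).2 hc)
  by_cases hclosed : ∀ l : F, C.bar l = l → ∀ v ∈ W, l * v ∈ W
  swap
  · push Not at hclosed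
    obtain ⟨l, hl, v, hvW, hlv⟩ := hclosed
    have hl0 : l ≠ 0 := fun e => hlv (by rw [e, zero_mul]; exact zero_mem W)
    have hl1 : 1 + l ≠ 0 := fun e => hlv (by rwa [← CharTwo.add_eq_zero.1 e, one_mul])
    obtain ⟨δ, hδ, e1⟩ := hK l hl hl0
    obtain ⟨ν, hν, e2⟩ := hK (1 + l) (by rw [map_add, map_one, hl]) hl1
    exact ⟨δ, hδ, ν, hν, v, hvW, v, hvW, v, hvW, fun e => hlv (by rw [e, mul_zero]; exact zero_mem W),
      by rwa [e1], by rw [e1, e2]; ring⟩
  obtain ⟨w, hw, ζ, hζ, hζb, hwc⟩ := U.kernel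
  have hζ0 : ζ ≠ 0 := fun e => hζ (by rw [e, map_zero])
  have hwact : ∀ v, act w v = ζ * v := fun v => by
    obtain ⟨w', hw'⟩ := exists_pts C v
    have hk2 : (ζ * v, w') ∈ Unital.Pts C.bar := by
      rw [pts_iff] at hw' ⊢
      simp only [map_mul, hζb] at hw' ⊢
      rw [hw']
      field_simp
    have h1 := hconj w hw _ (U.mem _ hw')
    rw [hwc _ hw', hπ _ hk2, hπ _ hw'] at h1
    exact h1.symm
  set τ := ζ + C.bar ζ with hτ
  have hτfix : C.bar τ = τ := by rw [hτ, map_add, C.bar_bar, add_comm]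
  have hτ0 : τ ≠ 0 := fun e => hζ (CharTwo.add_eq_zero.1 e).symm
  have hsq : ζ * ζ = 1 + τ * ζ := by
    rw [hτ, hζb, add_mul, inv_mul_cancel₀ hζ0]
    linear_combination -(CharTwo.two_eq_zero : (2 : F) = 0)
  have hζx : ζ * x ∉ W := fun h => htop (eq_top_iff.2 fun v _ => by
    set r2 := (v / x + C.bar (v / x)) / τ
    have h2 : C.bar r2 = r2 := by
      simp only [r2, map_div₀, map_add, C.bar_bar, hτfix]
      rw [add_comm]
    have h1 : C.bar (v / x + r2 * ζ) = v / x + r2 * ζ := by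
      rw [map_add, map_mul, h2]
      have : r2 * τ = v / x + C.bar (v / x) := div_mul_cancel₀ _ hτ0
      rw [hτ] at this
      linear_combination this + (C.bar (v / x) - r2 * ζ) * (CharTwo.two_eq_zero : (2 : F) = 0)
    have h3 := add_mem (hclosed _ h1 x hxW) (hclosed r2 h2 _ h)
    rwa [show (v / x + r2 * ζ) * x + r2 * (ζ * x) = v by
      field_simp
      linear_combination (r2 * ζ * x) * (CharTwo.two_eq_zero : (2 : F) = 0)] at h3)
  refine ⟨w, hw, w * w, mul_mem hw hw, x, hxW, τ * x, hclosed τ hτfix x hxW, x, hxW, hx0, ?_, ?_⟩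
  · rw [hwact]
    intro h
    refine hζx ?_
    have := hclosed τ⁻¹ (by rw [map_inv₀, hτfix]) _ h
    rwa [show τ⁻¹ * (ζ * (τ * x)) = ζ * x by field_simp] at this
  · have e : act (w * w) x = act w (act w x) := by
      obtain ⟨y, hy, rfl⟩ := hsurj x
      rw [← hconj w hw y hy, ← hconj w hw _ (hQ w hw y hy), ← hconj _ (mul_mem hw hw) y hy]
      congr 1
      group
    rw [e, hwact, hwact, hwact]
    linear_combination -x * hsq

/-- **The case `|Q| = q ^ 3`.** -/
theorem Ctx.cubic_stab [Finite F] (Cx : Ctx a t Q E K s r α) (hr : r ∈ E) (U : UCo a t Q C φ) {p : α}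
    (hp : ∀ e ∈ E, e • p = p) (hne : stabilizer G p ≠ ⊤) {f : G} (hf : f • p = p) : f ∈ E := by
  classical
  have S := Cx.set
  obtain ⟨L, hπ⟩ := exists_lin_cubic S U
  have hM : ∀ g : G, g • p = p → g • a = a := by
    intro g hg
    by_contra hga
    obtain ⟨y, hy, hp', h1, -⟩ := Cx.exists_comp_one hp hg hga
    set p' := y⁻¹ • p
    have hne' : stabilizer G p' ≠ ⊤ := fun e => hne (top_le_iff.1 fun x _ => by
      have h2 : (y⁻¹ * x * y) • p' = p' := (e ▸ Subgroup.mem_top _ : (y⁻¹ * x * y) ∈ stabilizer G p')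
      rw [mul_smul, mul_smul, smul_inv_smul] at h2
      exact smul_left_cancel _ h2)
    have htp := Cx.t_fix hp' h1
    have hKp : ∀ k ∈ K, k • p' = p' := fun k hk => by
      have h : baseGroup t E ≤ stabilizer G p' := (Subgroup.closure_le _).2 fun x hx => by
        rcases hx with hx | hx
        · exact hp' x hx
        · exact (Set.mem_singleton_iff.1 hx) ▸ htp
      exact h (S.K_le hr hk)
    -- the classes of the components
    have hcls : ∀ z ∈ Q, Comp t Q E p' z → ∀ z' ∈ Q, L.π z' = L.π z → Comp t Q E p' z' := fun z hz hc z' hz' e => by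
      have he : z' * z⁻¹ ∈ E := by
        rw [← L.zero_iff _ (mul_mem hz' (inv_mem hz)), L.mul _ hz' _ (inv_mem hz), L.pi_inv S hz, e, L.two S]
      simpa using Cx.comp_mul_E hp' hc he
    -- a component off the line gives all
    have hline : ∀ z, Comp t Q E p' z → z ∈ E := by
      intro z hc
      by_contra hzE
      obtain ⟨⟨u, w₀⟩, hu, rfl⟩ := U.surj z hc.1
      have hu0 : u ≠ 0 := fun e => hzE ((L.zero_iff _ (U.mem _ hu)).1 (by rw [hπ _ hu]; exact e))
      have hscale : ∀ l : F, C.bar l = l → l ≠ 0 → ∀ z ∈ Unital.Pts C.bar, Comp t Q E p' (φ z) →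
          ∀ z' ∈ Unital.Pts C.bar, z'.1 = l * z.1 → Comp t Q E p' (φ z') := by
        intro l hl hl0 z hz hzc z' hz' e
        obtain ⟨k, hk, rfl⟩ := C.lam_surj l hl hl0
        have hk2 : (C.lam k * z.1, C.lam k ^ 2 * z.2) ∈ Unital.Pts C.bar := by
          rw [pts_iff] at hz ⊢
          simp only [map_mul, map_pow, hl] at hz ⊢
          linear_combination (C.lam k ^ 2) * hz
        have h2 := Cx.comp_conj_K hzc hk (hKp k hk)
        rw [U.conj_K k hk z hz] at h2
        exact hcls _ (U.mem _ hk2) h2 _ (U.mem _ hz') (by rw [hπ _ hz', hπ _ hk2, e])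
      refine Cx.not_all_comp hp' hne' fun y hy => ?_
      obtain ⟨⟨v, b⟩, hv, rfl⟩ := U.surj y hy
      by_cases hv0 : v = 0
      · exact hcls 1 (one_mem Q) h1 _ hy (by rw [hπ _ hv, L.pi_one S]; exact hv0)
      set x := v / u with hx
      have hx0 : x ≠ 0 := div_ne_zero hv0 hu0
      by_cases hxfix : C.bar x = x
      · exact hscale x hxfix hx0 _ hu hc _ hv (by simp only [hx]; field_simp)
      have hw₀ : w₀ + C.bar w₀ ≠ 0 := by
        rw [pts_iff] at hu
        rw [hu]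
        exact mul_ne_zero ((map_ne_zero C.bar).2 hu0) hu0
      set c := (x⁻¹ + C.bar x⁻¹) / (w₀ + C.bar w₀) with hc'
      have hcfix : C.bar c = c := by
        simp only [hc', map_div₀, map_add, C.bar_bar]
        rw [add_comm, add_comm (C.bar w₀)]
      have hc0 : c ≠ 0 := div_ne_zero (fun e => hxfix (by
        have h3 := CharTwo.add_eq_zero.1 e
        rw [map_inv₀, inv_inj] at h3
        exact h3.symm)) hw₀
      set d := (x⁻¹ + c * w₀) / c with hd
      have hdfix : C.bar d = d := by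
        have h3 : c * (w₀ + C.bar w₀) = x⁻¹ + C.bar x⁻¹ := div_mul_cancel₀ _ hw₀
        simp only [hd, map_div₀, map_add, map_mul, hcfix]
        congr 1
        linear_combination h3 + (C.bar x⁻¹ - c * w₀) * (CharTwo.two_eq_zero : (2 : F) = 0)
      have hne0 : w₀ + d ≠ 0 := fun e => hw₀ (by
        rw [CharTwo.add_eq_zero.1 e, hdfix]
        exact CharTwo.add_self_eq_zero d)
      have hzd : (u, w₀ + d) ∈ Unital.Pts C.bar := by
        rw [pts_iff] at hu ⊢
        simp only [map_add, hdfix] at hu ⊢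
        linear_combination hu + d * (CharTwo.two_eq_zero : (2 : F) = 0)
      have hcd := hcls _ (U.mem _ hu) hc _ (U.mem _ hzd) (by rw [hπ _ hzd, hπ _ hu])
      have hswap : Unital.swap (u, w₀ + d) ∈ Unital.Pts C.bar := by
        rw [pts_iff] at hzd ⊢
        simp only at hzd
        have hb : C.bar (w₀ + d) ≠ 0 := (map_ne_zero C.bar).2 hne0
        simp only [Unital.swap, map_div₀, map_inv₀]
        field_simp
        linear_combination hzd
      have h4 := Cx.comp_swap htp hcd (U.mem _ hswap)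
        (U.act _ hzd fun e => hu0 (congrArg Prod.fst e))
      refine hscale c⁻¹ (by rw [map_inv₀, hcfix]) (inv_ne_zero hc0) _ hswap h4 _ hv ?_
      simp only [Unital.swap]
      have h5 : c * (w₀ + d) = x⁻¹ := by
        rw [hd, mul_add, mul_div_cancel₀ _ hc0]
        linear_combination (c * w₀) * (CharTwo.two_eq_zero : (2 : F) = 0)
      calc v = x * u := by simp only [hx]; field_simp
        _ = (c * (w₀ + d))⁻¹ * u := by rw [h5, inv_inv]
        _ = c⁻¹ * (u / (w₀ + d)) := by rw [mul_inv, div_eq_mul_inv]; ring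
    -- an element of the torus of the line
    obtain ⟨k, hk, hk1⟩ : ∃ k ∈ K, k ≠ 1 := by
      by_contra! hK
      have h1 : Nat.card K = 1 := Subgroup.card_eq_one.2 ((Subgroup.eq_bot_iff_forall _).2 hK)
      have := S.base.card_E
      have := S.four
      omega
    have hall := L.triple S hp' Cx.bin (S.mem_pair hk) hk1 (hKp k hk) fun z hz hzp g hg hgz => by
      by_contra hga'
      obtain ⟨z₁, hz₁, e₁⟩ := exists_Q S.rank hga'
      have hz₁E := hline z₁ (Cx.comp_of_hit hp' hg hz₁ e₁.symm)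
      have hq : z⁻¹ * z₁ ∈ Q := mul_mem (inv_mem hz) hz₁
      have hz2E := hline (z⁻¹ * z₁) (Cx.comp_of_hit hp' (f := z⁻¹ * g * z)
        (by rw [mul_smul, mul_smul, hgz, inv_smul_smul]) hq
        (by rw [mul_smul, fix_a S.rank hz, mul_smul, mul_smul, e₁]))
      refine hzp (hp' z ?_)
      have := mul_mem hz₁E (inv_mem hz2E)
      rwa [mul_inv_rev, inv_inv, mul_inv_cancel_left] at this
    obtain ⟨u, hu, hu1⟩ := L.surj 1
    have hE := hline u (Cx.comp_of_hit hp' (f := u * t) (by rw [mul_smul, htp, hall u hu]) hu (mul_smul u t a))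
    exact one_ne_zero (hu1 ▸ (L.zero_iff u hu).2 hE)
  have hne2 : ∃ x : F, x ≠ 0 := ⟨1, one_ne_zero⟩
  exact L.mem_E S hp (fun g hg => L.mem_Q S hp hM Cx.bin hne2 hg) Cx.bin (L.not_Q_fix S hp hM Cx.bin hne2) hf

end CfsgLib.Bender.Binary
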