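import Cfsg.Agent.Lib.Bender.Binary.Frame

/-!
# A binary action with a point stabiliser of even order
-/

set_option autoImplicit false
set_option linter.unusedSectionVars false
set_option linter.style.haveILetI false

namespace CfsgLib.Bender.Binary

open MulAction CfsgLib.Bender.Suzuki
open scoped Pointwise

universe u

variable {G : Type u} [Group G] [Finite G] [IsSimpleGroup G]

theorem forward (hone : ∀ s t : G, orderOf s = 2 → orderOf t = 2 → IsConj s t) {H : Subgroup G} (hH : H ≠ ⊤)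
    (heven : Even (Nat.card H)) (hB : Bin G (G ⧸ H)) :
    ((∃ (F : Type) (_ : Field F) (_ : Fintype F) (a : ℕ), 2 ≤ a ∧ Fintype.card F = 2 ^ a ∧
        Nonempty (G ≃* Matrix.SpecialLinearGroup (Fin 2) F)) ∧ ∃ P : Sylow 2 G, H = P) ∨
      (Cfsg.Lie.IsoSuzuki G ∧ ∃ P : Sylow 2 G, H = (Subgroup.center (P : Subgroup G)).map (P : Subgroup G).subtype) ∨
      ((∃ (F : Type) (_ : Field F) (_ : Fintype F) (a : ℕ), 2 ≤ a ∧ Fintype.card F = (2 ^ a) ^ 2 ∧
          Nonempty (G ≃* Cfsg.PSU 3 F (2 ^ a))) ∧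
        ∃ P : Sylow 2 G, H = (Subgroup.center (P : Subgroup G)).map (P : Subgroup G).subtype) := by
  obtain ⟨i, hiH, hi⟩ := CfsgLib.Invol.exists_invol_mem heven
  set p : G ⧸ H := ((1 : G) : G ⧸ H)
  have hst : stabilizer G p = H := MulAction.stabilizer_quotient H
  have hp : i • p = p := by rw [← mem_stabilizer_iff, hst]; exact hiH
  have hne : stabilizer G p ≠ ⊤ := hst.symm ▸ hH
  set M := stabilizer G (fixedBy (G ⧸ H) i) with hMdef
  have hM := stronglyEmbedded hB hone hi hp hne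
  obtain ⟨t, Q, E, K, s, r, S, hfaith, ⟨P, hP⟩, hc⟩ := exists_frame hM
  haveI := hfaith
  have hinv : ∀ e ∈ E, e ≠ 1 → fixedBy (G ⧸ H) e = fixedBy (G ⧸ H) i := fun e he he1 => by
    refine fixedBy_of_mem hB hone hi (orderOf_eq_prime (by rw [pow_two, S.base.e_sq e he]) he1) ?_
    rw [← hMdef, ← MulAction.stabilizer_quotient M]
    exact S.rank.le (S.base.le he)
  have hfix : ∀ q : G ⧸ H, i • q = q → ∀ e ∈ E, e • q = q := fun q hq e he => by
    by_cases he1 : e = 1
    · rw [he1, one_smul]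
    · rw [← mem_fixedBy, hinv e he he1]; exact hq
  have C : Ctx ((1 : G) : G ⧸ M) t Q E K s r (G ⧸ H) := ⟨S, hB, hone, fun q e he he1 hq e' he' =>
    hfix q (by rw [← mem_fixedBy, ← hinv e he he1]; exact hq) e' he'⟩
  have hEp := hfix p hp
  have hHE : H = E := le_antisymm
    (fun f hf => stab_mem_E C hc hEp hne (by rw [← mem_stabilizer_iff, hst]; exact hf))
    (fun e he => by rw [← hst]; exact hEp e he)
  have hcen := center_eq S hc
  subst hP
  rcases families_of_setting S hc with ⟨hF, hEQ⟩ | hF | hF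
  · exact Or.inl ⟨hF, P, hHE.trans hEQ⟩
  · exact Or.inr (Or.inl ⟨hF, P, hHE.trans hcen.symm⟩)
  · exact Or.inr (Or.inr ⟨hF, P, hHE.trans hcen.symm⟩)

end CfsgLib.Bender.Binary
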