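import Cfsg.Agent.Lib.Bender.Binary.Cubic
import Cfsg.Agent.Lib.Bender.Suzuki.Consumers

/-!
# The frame of a simple group with a strongly embedded subgroup

The involutions of the Sylow two-subgroup with the identity form its centre.
-/

set_option autoImplicit false
set_option linter.unusedSectionVars false
set_option linter.style.haveILetI false

namespace CfsgLib.Bender.Binary

open MulAction CfsgLib.RootSub.Setup CfsgLib.Bender.Suzuki

universe u v

variable {G : Type u} [Group G] [Finite G] [IsSimpleGroup G]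

/-- The setting on the cosets of a strongly embedded subgroup. -/
theorem exists_frame {M : Subgroup G} (hM : Cfsg.IsStronglyEmbedded M) :
    ∃ (t : G) (Q E K : Subgroup G) (s r : G), Setting ((1 : G) : G ⧸ M) t Q E K s r ∧
      FaithfulSMul G (G ⧸ M) ∧ (∃ P : Sylow 2 G, (P : Subgroup G) = Q) ∧
      (Nat.card Q = Nat.card E ∨ Nat.card Q = Nat.card E ^ 2 ∨ Nat.card Q = Nat.card E ^ 3) := by
  have hcore : M.normalCore = ⊥ := by
    rcases (inferInstance : M.normalCore.Normal).eq_bot_or_eq_top with h | h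
    · exact h
    · exact absurd (top_le_iff.1 (h ▸ M.normalCore_le)) hM.1
  have hpair := CfsgLib.Bender.Full.hasPair_of_simple hM
  obtain ⟨Q, hle, hn, htwo, hreg⟩ := CfsgLib.Bender.Full.fullStatement G M hM hcore hpair
  have hD : CfsgLib.SECrit.Shape.Data M Q := ⟨hM, hcore, hpair, hle, hn, htwo, hreg⟩
  obtain ⟨t, hS⟩ := hD.exists_setup
  haveI hf : FaithfulSMul G (G ⧸ M) := ⟨fun {g g'} h => by
    have := hD.faithful (g := g⁻¹ * g') fun b => by rw [mul_smul, ← h b, inv_smul_smul]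
    exact inv_mul_eq_one.1 this⟩
  obtain ⟨E, K, s, r, S, hc⟩ := exists_setting hS hD.pair_mul
  exact ⟨t, Q, E, K, s, r, S, hf, hD.exists_sylow, hc⟩

variable {Ω : Type v} [MulAction G Ω] [FaithfulSMul G Ω] {a : Ω} {t : G} {Q E K : Subgroup G} {s r : G}

/-- The centre of `Q` is `E`. -/
theorem center_eq (S : Setting a t Q E K s r)
    (hc : Nat.card Q = Nat.card E ∨ Nat.card Q = Nat.card E ^ 2 ∨ Nat.card Q = Nat.card E ^ 3) :
    (Subgroup.center ↥Q).map Q.subtype = E := by
  refine le_antisymm ?_ fun e he => ⟨⟨e, S.base.le he⟩, Subgroup.mem_center_iff.2 fun y =>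
    Subtype.ext (S.base.e_comm e he y y.2).eq.symm, rfl⟩
  rintro _ ⟨⟨y, hy⟩, hyc, rfl⟩
  have hcom : ∀ z ∈ Q, y * z = z * y := fun z hz =>
    (congrArg Subtype.val (Subgroup.mem_center_iff.1 hyc ⟨z, hz⟩)).symm
  rcases hc with h | h | h
  · exact (Subgroup.eq_of_le_of_card_ge S.base.le h.le).symm ▸ hy
  · by_contra hyE
    have hr := S.not_r_mem_of_sq h
    obtain ⟨k, hk, e, he, (rfl : y = k * r * k⁻¹ * e)⟩ := S.base.exists_class hr h y hy hyE
    -- every class is central, so `Q` is abelian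
    have hrc : ∀ z ∈ Q, r * z = z * r := fun z hz => by
      have h1 := hcom _ (S.base.k_q k hk z hz)
      rw [mul_assoc _ e, (S.base.e_comm e he _ (S.base.k_q k hk z hz)).eq, ← mul_assoc, ← mul_assoc (k * z * k⁻¹)] at h1
      have h2 := mul_right_cancel h1
      have h3 := congrArg (fun u => k⁻¹ * u * k) h2
      simpa [mul_assoc] using h3
    have hall : ∀ x ∈ Q, ∀ z ∈ Q, x * z = z * x := fun x hx z hz => by
      by_cases hxE : x ∈ E
      · exact (S.base.e_comm x hxE z hz).eq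
      obtain ⟨c, hc, e', he', (rfl : x = c * r * c⁻¹ * e')⟩ := S.base.exists_class hr h x hx hxE
      have h1 := hrc (c⁻¹ * z * c) (by simpa using S.base.k_q c⁻¹ (inv_mem hc) z hz)
      have h2 : c * r * c⁻¹ * z = z * (c * r * c⁻¹) := by
        have := congrArg (fun u => c * u * c⁻¹) h1
        simpa [mul_assoc] using this
      rw [mul_assoc _ e', (S.base.e_comm e' he' z hz).eq, ← mul_assoc, h2, mul_assoc z]
    have h1 := (exists_data S.rank S.faithful S.pair).sq_eq_one_of_comm hall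
    have h2 : Nat.card {x : Q // x * x = 1} = Nat.card E := Nat.card_congr
      { toFun := fun x => ⟨(x.1 : G), (S.mem_E _).2 ⟨x.1.2, congrArg Subtype.val x.2⟩⟩
        invFun := fun e => ⟨⟨e.1, S.base.le e.2⟩, Subtype.ext (S.base.e_sq _ e.2)⟩
        left_inv := fun _ => rfl
        right_inv := fun _ => rfl }
    rw [h2, h] at h1
    have := S.four
    nlinarith
  · obtain ⟨F, _, _, _, C, φ, U⟩ := exists_uco (S.cubic h)
    obtain ⟨⟨u, w⟩, hu, rfl⟩ := U.surj y hy
    have key : ∀ v : F, C.bar u * v = C.bar v * u := fun v => by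
      obtain ⟨b, hb⟩ := exists_pts C v
      have h1 := hcom (φ (v, b)) (U.mem _ hb)
      rw [← U.mul _ hu _ hb, ← U.mul _ hb _ hu] at h1
      have h2 := congrArg Prod.snd (U.inj (pts_pm hu hb) (pts_pm hb hu) h1)
      simp only [Unital.pm] at h2
      linear_combination h2
    have hu0 : u = 0 := by
      obtain ⟨c, hc⟩ := exists_trace C
      have h1 := key 1
      rw [map_one, one_mul, mul_one] at h1
      have h2 := key c
      rw [h1] at h2
      by_contra hu0
      exact hc (by rw [← mul_left_cancel₀ hu0 (h2.trans (mul_comm _ _))]; exact CharTwo.add_self_eq_zero c)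
    obtain ⟨L, hL⟩ := exists_lin_cubic S U
    exact (L.zero_iff _ hy).1 ((hL _ hu).trans hu0)

/-- The point stabiliser for a binary action. -/
theorem stab_mem_E {α : Type*} [MulAction G α] [Finite α] (C : Ctx a t Q E K s r α)
    (hc : Nat.card Q = Nat.card E ∨ Nat.card Q = Nat.card E ^ 2 ∨ Nat.card Q = Nat.card E ^ 3)
    {p : α} (hp : ∀ e ∈ E, e • p = p) (hne : stabilizer G p ≠ ⊤) {f : G} (hf : f • p = p) : f ∈ E := by
  rcases hc with h | h | h
  · exact C.small_stab (Or.inl h) hp hne hf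
  · exact C.small_stab (Or.inr h) hp hne hf
  · obtain ⟨F, _, _, _, EC, φ, U⟩ := exists_uco (C.set.cubic h)
    exact C.cubic_stab (C.set.cubic h).r_mem U hp hne hf

/-- The three families. -/
theorem families_of_setting (S : Setting a t Q E K s r)
    (hc : Nat.card Q = Nat.card E ∨ Nat.card Q = Nat.card E ^ 2 ∨ Nat.card Q = Nat.card E ^ 3) :
    ((∃ (F : Type) (_ : Field F) (_ : Fintype F) (n : ℕ), 2 ≤ n ∧ Fintype.card F = 2 ^ n ∧
        Nonempty (G ≃* Matrix.SpecialLinearGroup (Fin 2) F)) ∧ E = Q) ∨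
      Cfsg.Lie.IsoSuzuki G ∨
      (∃ (F : Type) (_ : Field F) (_ : Fintype F) (n : ℕ), 2 ≤ n ∧ Fintype.card F = (2 ^ n) ^ 2 ∧
        Nonempty (G ≃* Cfsg.PSU 3 F (2 ^ n))) := by
  have htop : qtGroup t Q = ⊤ := qt_top S
  let e : G ≃* ↥(qtGroup t Q) := Subgroup.topEquiv.symm.trans (MulEquiv.subgroupCongr htop.symm)
  rcases hc with h | h | h
  · obtain ⟨F, i1, i2, ⟨n, hn, hF⟩, ⟨g⟩⟩ := S.psl_of_card h
    haveI := charTwo_of_card hF
    exact Or.inl ⟨⟨F, i1, i2, n, hn, hF,
      ⟨(e.trans g).trans (MulEquiv.ofBijective _ CfsgLib.PushUpTwo.toPSL_bijective).symm⟩⟩,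
      Subgroup.eq_of_le_of_card_ge S.base.le h.le⟩
  · obtain ⟨F, i1, i2, m, hm, hF, ⟨g⟩⟩ := S.suzuki_of_card h
    exact Or.inr (Or.inl ⟨F, i1, i2, m, hm, hF, ⟨e.trans g⟩⟩)
  · obtain ⟨L, hL, hodd, F, i1, i2, n, hn, hF, ⟨g⟩⟩ := (S.cubic h).exists_psu_sub
    have hLtop : L = ⊤ := by
      rcases hL.eq_bot_or_eq_top with hb | hb
      · exfalso
        rw [hb, Subgroup.index_bot] at hodd
        exact (Nat.not_even_iff_odd.2 hodd) (S.rank.even_card.trans_dvd (Subgroup.card_subgroup_dvd_card Q))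
      · exact hb
    exact Or.inr (Or.inr ⟨F, i1, i2, n, hn, hF,
      ⟨(Subgroup.topEquiv.symm.trans (MulEquiv.subgroupCongr hLtop.symm)).trans g⟩⟩)

end CfsgLib.Bender.Binary
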