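import Cfsg.Agent.Lib.Bender.Binary.Basic
import Cfsg.Agent.Lib.Bender.Suzuki.Defs
import Cfsg.Agent.Lib.RootSub.Setup2

/-!
# Binary actions over a rank one setting: the linearised point stabiliser

`π` is a coordinate on `Q` modulo `E` in which the two point stabiliser acts without fixed points.
A point fixed by `E` whose stabiliser lies in the stabiliser of `a` has stabiliser in `E`.
-/

set_option autoImplicit false
set_option linter.unusedSectionVars false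
set_option linter.style.haveILetI false

namespace CfsgLib.Bender.Binary

open MulAction CfsgLib.RootSub.Setup CfsgLib.Bender.Suzuki

universe u v w

variable {G : Type u} {Ω : Type v} {α : Type w} [Group G] [MulAction G Ω] [MulAction G α]

/-- The operators of `act` are generic on proper subgroups. -/
def Spread (D : Subgroup G) {V : Type*} [AddCommGroup V] (act : G → V → V) : Prop :=
  ∀ W : AddSubgroup V, W ≠ ⊥ → W ≠ ⊤ → ∃ δ ∈ D, ∃ ν ∈ D, ∃ x ∈ W, ∃ w ∈ W, ∃ w' ∈ W,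
    x ≠ 0 ∧ act δ w ∉ W ∧ x + act δ w = act ν w'

/-- Coordinates on `Q` modulo `E` with the operators of the two point stabiliser. -/
structure Lin (a : Ω) (t : G) (Q E : Subgroup G) (V : Type*) [AddCommGroup V] where
  /-- the coordinate -/
  π : G → V
  /-- the operators -/
  act : G → V → V
  mul : ∀ y ∈ Q, ∀ z ∈ Q, π (y * z) = π y + π z
  zero_iff : ∀ y ∈ Q, π y = 0 ↔ y ∈ E
  surj : ∀ x : V, ∃ y ∈ Q, π y = x
  conj : ∀ δ ∈ pairStab a t, ∀ y ∈ Q, π (δ * y * δ⁻¹) = act δ (π y)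
  comm : ∀ δ ∈ pairStab a t, ∀ ν ∈ pairStab a t, Commute δ ν
  fpf : ∀ δ ∈ pairStab a t, δ ≠ 1 → ∀ x : V, act δ x = x → x = 0
  spread : Spread (pairStab a t) act

variable {a : Ω} {t : G} {Q E K : Subgroup G} {s r : G}
variable [Finite G] {V : Type*} [AddCommGroup V] (L : Lin a t Q E V) (S : Setting a t Q E K s r)

namespace Lin

include S

theorem conjQ {δ y : G} (hδ : δ ∈ pairStab a t) (hy : y ∈ Q) : δ * y * δ⁻¹ ∈ Q :=
  S.rank.conj_mem δ hδ.1 y hy

theorem decompM {f : G} (hf : f • a = a) : ∃ z ∈ Q, ∃ δ ∈ pairStab a t, f = z * δ := by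
  have hne : f • t • a ≠ a := fun e => ta_ne S.rank (by
    conv_rhs at e => rw [← hf]
    exact smul_left_cancel _ e)
  obtain ⟨z, hz, e⟩ := exists_Q S.rank hne
  refine ⟨z, hz, z⁻¹ * f, ⟨?_, ?_⟩, by group⟩
  · show (z⁻¹ * f) • a = a
    rw [mul_smul, hf, fix_a S.rank (inv_mem hz)]
  · show (z⁻¹ * f) • t • a = t • a
    rw [mul_smul, ← e, inv_smul_smul]

include L in
theorem pi_one : L.π 1 = 0 := by
  have h := L.mul 1 (one_mem Q) 1 (one_mem Q)
  rw [one_mul] at h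
  exact left_eq_add.1 h

include L in
theorem two (x : V) : x + x = 0 := by
  obtain ⟨y, hy, rfl⟩ := L.surj x
  rw [← L.mul y hy y hy, L.zero_iff _ (mul_mem hy hy)]
  exact S.base.q_sq y hy

include L in
theorem neg_eq (x : V) : -x = x := neg_eq_of_add_eq_zero_left (L.two S x)

theorem pi_inv {y : G} (hy : y ∈ Q) : L.π y⁻¹ = L.π y := by
  have h := L.mul y⁻¹ (inv_mem hy) y hy
  rw [inv_mul_cancel, L.pi_one S] at h
  rw [eq_neg_of_add_eq_zero_left h.symm, L.neg_eq S]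

theorem act_add {δ : G} (hδ : δ ∈ pairStab a t) (x x' : V) : L.act δ (x + x') = L.act δ x + L.act δ x' := by
  obtain ⟨y, hy, rfl⟩ := L.surj x
  obtain ⟨y', hy', rfl⟩ := L.surj x'
  rw [← L.mul y hy y' hy', ← L.conj δ hδ _ (mul_mem hy hy'), ← L.conj δ hδ y hy, ← L.conj δ hδ y' hy',
    ← L.mul _ (conjQ S hδ hy) _ (conjQ S hδ hy'), conj_mul]

theorem act_zero {δ : G} (hδ : δ ∈ pairStab a t) : L.act δ 0 = 0 := by
  rw [← L.pi_one S, ← L.conj δ hδ 1 (one_mem Q), mul_one, mul_inv_cancel]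

theorem act_one (x : V) : L.act 1 x = x := by
  obtain ⟨y, hy, rfl⟩ := L.surj x
  rw [← L.conj 1 (one_mem _) y hy, one_mul, inv_one, mul_one]

theorem act_mul {δ ν : G} (hδ : δ ∈ pairStab a t) (hν : ν ∈ pairStab a t) (x : V) :
    L.act (δ * ν) x = L.act δ (L.act ν x) := by
  obtain ⟨y, hy, rfl⟩ := L.surj x
  rw [← L.conj _ (mul_mem hδ hν) y hy, ← L.conj ν hν y hy, ← L.conj δ hδ _ (conjQ S hν hy)]
  congr 1
  group

theorem act_inj {δ : G} (hδ : δ ∈ pairStab a t) {x x' : V} (h : L.act δ x = L.act δ x') : x = x' := by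
  rw [← L.act_one S x, ← L.act_one S x', ← inv_mul_cancel δ, L.act_mul S (inv_mem hδ) hδ,
    L.act_mul S (inv_mem hδ) hδ, h]

theorem one_add_inj {δ : G} (hδ : δ ∈ pairStab a t) (hδ1 : δ ≠ 1) {x x' : V}
    (h : x + L.act δ x = x' + L.act δ x') : x = x' := by
  refine sub_eq_zero.1 (L.fpf δ hδ hδ1 _ ?_)
  rw [sub_eq_add_neg, L.neg_eq S, L.act_add S hδ]
  calc L.act δ x + L.act δ x' = (x + L.act δ x) + (L.act δ x' + x) := by
        rw [add_comm x, add_add_add_comm, add_comm x x, L.two S, add_zero]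
    _ = (x' + L.act δ x') + (L.act δ x' + x) := by rw [h]
    _ = x + x' := by
        rw [add_assoc, ← add_assoc (L.act δ x'), L.two S, zero_add, add_comm]

variable {p : α} (hp : ∀ e ∈ E, e • p = p)

/-- The classes of the elements of `Q` fixing `p`. -/
def fixSub (p : α) : AddSubgroup V where
  carrier := {x | ∃ y ∈ Q, y • p = p ∧ L.π y = x}
  zero_mem' := ⟨1, one_mem Q, one_smul _ _, L.pi_one S⟩
  add_mem' := by
    rintro _ _ ⟨y, hy, hyp, rfl⟩ ⟨z, hz, hzp, rfl⟩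
    exact ⟨y * z, mul_mem hy hz, by rw [mul_smul, hzp, hyp], L.mul y hy z hz⟩
  neg_mem' := by
    rintro _ ⟨y, hy, hyp, rfl⟩
    exact ⟨y⁻¹, inv_mem hy, inv_smul_eq_iff.2 hyp.symm, by rw [L.pi_inv S hy, L.neg_eq S]⟩

include L hp

theorem fix_iff {y : G} (hy : y ∈ Q) : y • p = p ↔ L.π y ∈ L.fixSub S p := by
  refine ⟨fun h => ⟨y, hy, h, rfl⟩, ?_⟩
  rintro ⟨z, hz, hzp, hzy⟩
  have he : z⁻¹ * y ∈ E := by
    rw [← L.zero_iff _ (mul_mem (inv_mem hz) hy), L.mul _ (inv_mem hz) y hy, L.pi_inv S hz, hzy, L.two S]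
  rw [show y = z * (z⁻¹ * y) by group, mul_smul, hp _ he, hzp]

theorem act_fixSub {δ : G} (hδ : δ ∈ pairStab a t) (hδp : δ • p = p) {x : V} (hx : x ∈ L.fixSub S p) :
    L.act δ x ∈ L.fixSub S p := by
  obtain ⟨y, hy, hyp, rfl⟩ := hx
  refine ⟨δ * y * δ⁻¹, conjQ S hδ hy, ?_, L.conj δ hδ y hy⟩
  rw [mul_smul, mul_smul, inv_smul_eq_iff.2 hδp.symm, hyp, hδp]

theorem shift [Finite V] {d z δ : G} (hd : d ∈ pairStab a t) (hd1 : d ≠ 1) (hdp : d • p = p) (hz : z ∈ Q)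
    (hδ : δ ∈ pairStab a t) (h : (z * δ) • p = p) : z • p = p ∧ δ • p = p := by
  have h' : (z * δ)⁻¹ • p = p := inv_smul_eq_iff.2 h.symm
  have hc : (z * (d * z⁻¹ * d⁻¹)) • p = p := by
    have e : z * (d * z⁻¹ * d⁻¹) = (z * δ) * d * (z * δ)⁻¹ * d⁻¹ := by
      have : δ * d * δ⁻¹ = d := by rw [(L.comm δ hδ d hd).eq, mul_inv_cancel_right]
      calc z * (d * z⁻¹ * d⁻¹) = z * d * z⁻¹ * d⁻¹ := by group
        _ = z * (δ * d * δ⁻¹) * z⁻¹ * d⁻¹ := by rw [this]
        _ = _ := by group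
    rw [e, mul_smul, inv_smul_eq_iff.2 hdp.symm, mul_smul, h', mul_smul, hdp, h]
  have hmem : L.π z + L.act d (L.π z) ∈ L.fixSub S p :=
    ⟨_, mul_mem hz (conjQ S hd (inv_mem hz)), hc, by
      rw [L.mul z hz _ (conjQ S hd (inv_mem hz)), L.conj d hd _ (inv_mem hz), L.pi_inv S hz]⟩
  let g : L.fixSub S p → L.fixSub S p := fun x =>
    ⟨x.1 + L.act d x.1, add_mem x.2 (L.act_fixSub S hp hd hdp x.2)⟩
  have hg : Function.Injective g := fun x x' e => Subtype.ext (L.one_add_inj S hd hd1 (congrArg Subtype.val e))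
  obtain ⟨x, hx⟩ := Finite.surjective_of_injective hg ⟨_, hmem⟩
  have hzA : L.π z ∈ L.fixSub S p := L.one_add_inj S hd hd1 (congrArg Subtype.val hx) ▸ x.2
  have hzp := (L.fix_iff S hp hz).2 hzA
  refine ⟨hzp, ?_⟩
  rw [mul_smul] at h
  conv_rhs at h => rw [← hzp]
  exact smul_left_cancel _ h

theorem triple [Finite α] [Finite V] (hB : Bin G α) {d : G} (hd : d ∈ pairStab a t) (hd1 : d ≠ 1) (hdp : d • p = p)
    (hcross : ∀ y ∈ Q, y • p ≠ p → ∀ f : G, f • p = p → f • y • p = y • p → f • a = a) :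
    ∀ y ∈ Q, y • p = p := by
  classical
  by_contra hcon
  push Not at hcon
  obtain ⟨w, hwQ, hwp⟩ := hcon
  have hv : L.π w ∉ L.fixSub S p := fun h => hwp ((L.fix_iff S hp hwQ).2 h)
  set u := L.π w + L.act d (L.π w) with hu
  have huA : u ∉ L.fixSub S p := by
    intro h
    let g : L.fixSub S p → L.fixSub S p := fun x =>
      ⟨x.1 + L.act d x.1, add_mem x.2 (L.act_fixSub S hp hd hdp x.2)⟩
    have hg : Function.Injective g := fun x x' e => Subtype.ext (L.one_add_inj S hd hd1 (congrArg Subtype.val e))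
    obtain ⟨x, hx⟩ := Finite.surjective_of_injective hg ⟨_, h⟩
    exact hv (L.one_add_inj S hd hd1 (congrArg Subtype.val hx) ▸ x.2)
  obtain ⟨y, hyQ, hyu⟩ := L.surj u
  have hyp : y • p ≠ p := fun h => huA (hyu ▸ (L.fix_iff S hp hyQ).1 h)
  set i := d⁻¹ with hi
  have hiD : i ∈ pairStab a t := inv_mem hd
  have hip : i • p = p := inv_smul_eq_iff.2 hdp.symm
  have hiyp : (y * i * y⁻¹) • y • p = y • p := by rw [mul_smul, mul_smul, inv_smul_smul, hip]
  -- the conjugate moves `w • p` as `d` does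
  have hiwp : (y * i * y⁻¹) • w • p = d • w • p := by
    have hii : i * i ∈ pairStab a t := mul_mem hiD hiD
    set q := w⁻¹ * (i * y * i⁻¹) * (i * i * (y⁻¹ * w) * (i * i)⁻¹)
    have hq1 := conjQ S hiD hyQ
    have hq2 := conjQ S hii (mul_mem (inv_mem hyQ) hwQ)
    have hqE : q ∈ E := by
      rw [← L.zero_iff _ (mul_mem (mul_mem (inv_mem hwQ) hq1) hq2), L.mul _ (mul_mem (inv_mem hwQ) hq1) _ hq2,
        L.mul _ (inv_mem hwQ) _ hq1, L.pi_inv S hwQ, L.conj i hiD y hyQ,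
        L.conj _ hii _ (mul_mem (inv_mem hyQ) hwQ), L.mul _ (inv_mem hyQ) w hwQ, L.pi_inv S hyQ, hyu, hu,
        add_comm (L.π w) (L.act d (L.π w)), add_assoc (L.act d (L.π w)), L.two S, add_zero, L.act_add S hiD,
        ← L.act_mul S hiD hd, ← L.act_mul S hii hd, hi, inv_mul_cancel, L.act_one S, inv_mul_cancel_right,
        ← add_assoc, L.two S, zero_add, L.two S]
    have e : (d * w)⁻¹ * (y * i * y⁻¹ * w) = q * (i * i) := by simp only [q, hi]; group
    rw [← mul_smul, ← mul_smul d w p, ← inv_smul_eq_iff, ← mul_smul, e, mul_smul q (i * i), mul_smul i i, hip, hip, hp _ hqE]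
  have hdwp : d • w • p ≠ w • p := by
    intro h
    refine huA ?_
    have h1 : ((w⁻¹ * (d * w * d⁻¹)) * d) • p = p := by
      rw [show (w⁻¹ * (d * w * d⁻¹)) * d = w⁻¹ * (d * w) by group, mul_smul, mul_smul, h, inv_smul_smul]
    have hq := mul_mem (inv_mem hwQ) (conjQ S hd hwQ)
    have h2 := (L.fix_iff S hp hq).1 (L.shift S hp hd hd1 hdp hq hd h1).1
    rwa [L.mul _ (inv_mem hwQ) _ (conjQ S hd hwQ), L.pi_inv S hwQ, L.conj d hd w hwQ] at h2
  let φ : α → α := fun z => if z = w • p then d • z else z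
  have hφw : φ (w • p) = d • w • p := if_pos rfl
  have hwy : y • p ≠ w • p := by
    intro h
    rw [← h, hiyp] at hiwp
    exact hdwp (by rw [← h]; exact hiwp.symm)
  have hφp : φ p = p := if_neg (Ne.symm hwp)
  have hφy : φ (y • p) = y • p := if_neg hwy
  obtain ⟨f, hf⟩ := hB.ext {p, y • p, w • p} φ (by
    intro x hx z hz
    rcases hx with rfl | rfl | rfl <;> rcases hz with rfl | rfl | rfl
    · exact ⟨1, by rw [one_smul, hφp], by rw [one_smul, hφp]⟩
    · exact ⟨1, by rw [one_smul, hφp], by rw [one_smul, hφy]⟩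
    · exact ⟨d, by rw [hφp, hdp], hφw.symm⟩
    · exact ⟨1, by rw [one_smul, hφy], by rw [one_smul, hφp]⟩
    · exact ⟨1, by rw [one_smul, hφy], by rw [one_smul, hφy]⟩
    · exact ⟨y * i * y⁻¹, by rw [hφy, hiyp], by rw [hφw, hiwp]⟩
    · exact ⟨d, hφw.symm, by rw [hφp, hdp]⟩
    · exact ⟨y * i * y⁻¹, by rw [hφw, hiwp], by rw [hφy, hiyp]⟩
    · exact ⟨d, hφw.symm, hφw.symm⟩)
  have hfp : f • p = p := (hf p (Or.inl rfl)).trans hφp
  have hfy : f • y • p = y • p := (hf _ (Or.inr (Or.inl rfl))).trans hφy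
  have hfw : f • w • p = d • w • p := (hf _ (Or.inr (Or.inr rfl))).trans hφw
  obtain ⟨z, hz, δ, hδ, rfl⟩ := decompM S (hcross y hyQ hyp f hfp hfy)
  obtain ⟨hzp, hδp⟩ := L.shift S hp hd hd1 hdp hz hδ hfp
  -- the common part is trivial
  have h1 : ((y⁻¹ * z * (δ * y * δ⁻¹)) * δ) • p = p := by
    rw [show (y⁻¹ * z * (δ * y * δ⁻¹)) * δ = y⁻¹ * (z * δ * y) by group, mul_smul, mul_smul, hfy, inv_smul_smul]
  have hq := mul_mem (mul_mem (inv_mem hyQ) hz) (conjQ S hδ hyQ)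
  have h2 := (L.fix_iff S hp hq).1 (L.shift S hp hd hd1 hdp hq hδ h1).1
  rw [L.mul _ (mul_mem (inv_mem hyQ) hz) _ (conjQ S hδ hyQ), L.mul _ (inv_mem hyQ) z hz, L.pi_inv S hyQ,
    L.conj δ hδ y hyQ, hyu, add_right_comm] at h2
  have hzA := (L.fix_iff S hp hz).1 hzp
  have h3 : u + L.act δ u ∈ L.fixSub S p := by
    have := sub_mem h2 hzA
    rwa [add_sub_cancel_right] at this
  by_cases hδ1 : δ = 1
  · subst hδ1
    rw [mul_one] at hfw
    have h4 : ((w⁻¹ * z⁻¹ * (d * w * d⁻¹)) * d) • p = p := by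
      rw [show (w⁻¹ * z⁻¹ * (d * w * d⁻¹)) * d = w⁻¹ * (z⁻¹ * (d * w)) by group, mul_smul, mul_smul, mul_smul,
        ← hfw, inv_smul_smul, inv_smul_smul]
    have hq' := mul_mem (mul_mem (inv_mem hwQ) (inv_mem hz)) (conjQ S hd hwQ)
    have h5 := (L.fix_iff S hp hq').1 (L.shift S hp hd hd1 hdp hq' hd h4).1
    rw [L.mul _ (mul_mem (inv_mem hwQ) (inv_mem hz)) _ (conjQ S hd hwQ), L.mul _ (inv_mem hwQ) _ (inv_mem hz),
      L.pi_inv S hwQ, L.pi_inv S hz, L.conj d hd w hwQ, add_right_comm, ← hu] at h5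
    refine huA ?_
    have := sub_mem h5 hzA
    rwa [add_sub_cancel_right] at this
  · let g : L.fixSub S p → L.fixSub S p := fun x =>
      ⟨x.1 + L.act δ x.1, add_mem x.2 (L.act_fixSub S hp hδ hδp x.2)⟩
    have hg : Function.Injective g := fun x x' e => Subtype.ext (L.one_add_inj S hδ hδ1 (congrArg Subtype.val e))
    obtain ⟨x, hx⟩ := Finite.surjective_of_injective hg ⟨_, h3⟩
    exact huA (L.one_add_inj S hδ hδ1 (congrArg Subtype.val hx) ▸ x.2)

end Lin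

end CfsgLib.Bender.Binary
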