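import Cfsg.Agent.Lib.Bender.Suzuki.Model
import Cfsg.Agent.Lib.Invol.StronglyEmbedded
import Cfsg.Agent.Lib.Lie.Suz.Twisted
import Cfsg.Prelude.Def_Sz
import Mathlib.LinearAlgebra.Projectivization.Action

/-!
# The three families have strongly embedded subgroups
-/

set_option autoImplicit false
set_option linter.unusedSectionVars false
set_option linter.style.haveILetI false

namespace CfsgLib.Bender.Binary

open MulAction

variable {G α : Type*} [Group G] [Finite G] [MulAction G α]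

/-- The stabiliser of a point when every involution fixes at most one point. -/
theorem se_of_fix_unique {a : α} {i g : G} (hi : orderOf i = 2) (hia : i • a = a) (hga : g • a ≠ a)
    (huniq : ∀ t : G, orderOf t = 2 → ∀ b c : α, t • b = b → t • c = c → b = c) :
    Cfsg.IsStronglyEmbedded (stabilizer G a) := by
  refine (CfsgLib.Invol.stronglyEmbedded_iff (fun e => hga ?_) ?_).2 fun t ht hto x hx => ?_
  · exact (e ▸ Subgroup.mem_top g : g ∈ stabilizer G a)
  · exact CfsgLib.Invol.even_card_of_invol_mem (show i ∈ stabilizer G a from hia) hi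
  · refine huniq _ (CfsgLib.Invol.invol_conj hto x) (x • a) a ?_ hx
    rw [mul_smul, mul_smul, inv_smul_smul, show t • a = a from ht]

/-- Involutions fix one point when a Sylow two-subgroup fixes a point and is free on the others. -/
theorem fix_unique_of_sylow {a : α} (P : Sylow 2 G)
    (hfree : ∀ u ∈ (P : Subgroup G), u ≠ 1 → ∀ c : α, u • c = c → c = a)
    {t : G} (ht : orderOf t = 2) {b c : α} (hb : t • b = b) (hc : t • c = c) : b = c := by
  haveI : Fact (Nat.Prime 2) := ⟨Nat.prime_two⟩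
  obtain ⟨x, hx⟩ := CfsgLib.Invol.exists_conj_le_sylow (p := 2) (Q := Subgroup.zpowers t)
    (IsPGroup.of_card (n := 1) (by rw [pow_one, Nat.card_zpowers, ht])) P
  have hmem := hx t (Subgroup.mem_zpowers t)
  have key : ∀ d : α, t • d = d → x • d = a := fun d hd => by
    refine hfree _ hmem (fun e => CfsgLib.Invol.invol_ne_one ht (conj_eq_one_iff.1 e)) _ ?_
    rw [mul_smul, mul_smul, inv_smul_smul, hd]
  exact smul_left_cancel x ((key b hb).trans (key c hc).symm)

open scoped MatrixGroups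

theorem se_sl_two {F : Type} [Field F] [Fintype F] [CharP F 2] :
    ∃ M : Subgroup SL(2, F), Cfsg.IsStronglyEmbedded M := by
  classical
  let pt : ∀ v : Fin 2 → F, v ≠ 0 → Projectivization F (Fin 2 → F) := Projectivization.mk F
  have he0 : (![1, 0] : Fin 2 → F) ≠ 0 := by simp
  have he1 : (![0, 1] : Fin 2 → F) ≠ 0 := by simp
  let u : SL(2, F) := ⟨!![1, 1; 0, 1], by simp [Matrix.det_fin_two]⟩
  let w : SL(2, F) := ⟨!![0, 1; 1, 0], by simp [Matrix.det_fin_two, CharTwo.neg_eq]⟩
  have hact : ∀ (g : SL(2, F)) (v : Fin 2 → F), g • v = g.1.mulVec v := fun g v => rfl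
  have hfix : ∀ (g : SL(2, F)) (v : Fin 2 → F) (hv : v ≠ 0), g • pt v hv = pt v hv →
      ∃ l : F, g.1.mulVec v = l • v := fun g v hv h => by
    rw [Projectivization.smul_mk, Projectivization.mk_eq_mk_iff'] at h
    obtain ⟨l, hl⟩ := h
    exact ⟨l, by rw [← hact, hl]⟩
  refine ⟨_, se_of_fix_unique (a := pt _ he0) (i := u) (g := w) ?_ ?_ ?_ fun t ht b c hb hc => ?_⟩
  · refine CfsgLib.Invol.invol_iff.2 ⟨?_, fun e => ?_⟩
    · ext i j
      rw [Matrix.SpecialLinearGroup.coe_mul, Matrix.SpecialLinearGroup.coe_one]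
      fin_cases i <;> fin_cases j <;> simp [u, Matrix.mul_apply, Fin.sum_univ_two, CharTwo.add_self_eq_zero]
    · have := congrArg (fun g : SL(2, F) => g.1 0 1) e
      simp [u] at this
  · rw [Projectivization.smul_mk, Projectivization.mk_eq_mk_iff']
    refine ⟨1, ?_⟩
    rw [hact, one_smul]
    ext i
    fin_cases i <;> simp [u, Matrix.mulVec, dotProduct, Fin.sum_univ_two]
  · intro e
    obtain ⟨l, hl⟩ := hfix w _ he0 e
    have := congrFun hl 1
    simp [w, Matrix.mulVec, dotProduct, Fin.sum_univ_two] at this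
  · by_contra hne
    obtain ⟨v, hv, rfl⟩ : ∃ v hv, pt v hv = b := ⟨b.rep, b.rep_nonzero, b.mk_rep⟩
    obtain ⟨z, hz, rfl⟩ : ∃ v hv, pt v hv = c := ⟨c.rep, c.rep_nonzero, c.mk_rep⟩
    have h2 : t.1 * t.1 = 1 := congrArg (fun g : SL(2, F) => (g : Matrix (Fin 2) (Fin 2) F)) (CfsgLib.Invol.invol_mul_self ht)
    have hev : ∀ (x : Fin 2 → F) (hx : x ≠ 0), t • pt x hx = pt x hx → t.1.mulVec x = x := fun x hx h => by
      obtain ⟨l, hl⟩ := hfix t x hx h
      have h1 : (l * l) • x = x := by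
        rw [mul_smul, ← hl, ← Matrix.mulVec_smul, ← hl, Matrix.mulVec_mulVec, h2, Matrix.one_mulVec]
      have h3 : l * l = 1 := by
        by_contra hl1
        refine hx ((smul_eq_zero.1 ?_).resolve_left (sub_ne_zero.2 hl1))
        rw [sub_smul, one_smul, h1, sub_self]
      have h4 : l = 1 := by
        have : (l + 1) * (l + 1) = 0 := by
          linear_combination h3 + (l + 1) * (CharTwo.two_eq_zero : (2 : F) = 0)
        exact CharTwo.add_eq_zero.1 (mul_self_eq_zero.1 this)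
      rw [hl, h4, one_smul]
    have hli : LinearIndependent F ![v, z] := by
      rw [LinearIndependent.pair_iff' hv]
      intro l hl
      exact hne ((Projectivization.mk_eq_mk_iff' F _ _ hv hz).2 ⟨l⁻¹, by
        have hl0 : l ≠ 0 := fun e => hz (by rw [← hl, e, zero_smul])
        rw [← hl, inv_smul_smul₀ hl0]⟩)
    refine CfsgLib.Invol.invol_ne_one ht ?_
    apply Subtype.ext
    let B := basisOfLinearIndependentOfCardEqFinrank hli (by simp)
    have hid : Matrix.toLin' t.1 = LinearMap.id := B.ext fun k => by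
      simp only [B, coe_basisOfLinearIndependentOfCardEqFinrank, Matrix.toLin'_apply, LinearMap.id_apply]
      fin_cases k
      · exact hev v hv hb
      · exact hev z hz hc
    rw [← Matrix.toLin'_one] at hid
    rw [Matrix.toLin'.injective hid]
    rfl

open CfsgLib.Lie.Suz in
theorem se_sz {F : Type} [Field F] [Fintype F] {m : ℕ} (hm : 1 ≤ m) (hF : Fintype.card F = 2 ^ (2 * m + 1)) :
    ∃ M : Subgroup (Cfsg.Sz F m), Cfsg.IsStronglyEmbedded M := by
  classical
  haveI : Fact (Nat.Prime 2) := ⟨Nat.prime_two⟩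
  haveI : CharP F 2 := charP_of_card_eq_prime_pow (f := 2 * m + 1) hF
  have hS := isSuzField hF
  let P : Sylow 2 (Cfsg.Sz F m) := (U_isPGroup hF).toSylow (U_index_not_dvd hm hF)
  let inf : Cfsg.suzukiOvoid F m := ⟨_, ovoid_inf⟩
  let zero : Cfsg.suzukiOvoid F m := ⟨_, ovoid_zero⟩
  have hfree : ∀ g ∈ (P : Subgroup (Cfsg.Sz F m)), g ≠ 1 → ∀ c : Cfsg.suzukiOvoid F m, g • c = c → c = inf := by
    intro g hg hg1 c hc
    have hg' : g ∈ U hF := hg
    rcases (ovoid_iff _).1 c.2 with h | ⟨x, y, h⟩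
    · exact Subtype.ext h
    · exfalso
      have hcz : TS hF x y • zero = c := Subtype.ext ((T_zero_pt hS x y).trans h.symm)
      have hk : ((TS hF x y)⁻¹ * g * TS hF x y) • zero = zero := by
        rw [mul_smul, mul_smul, hcz, hc, ← hcz, inv_smul_smul]
      have hU : (TS hF x y)⁻¹ * g * TS hF x y ∈ U hF :=
        mul_mem (mul_mem (inv_mem (TS_mem_U hF x y)) hg') (TS_mem_U hF x y)
      obtain ⟨a, b, hab⟩ := hU
      have e1 : TS hF a b • zero = zero := by
        rw [show TS hF a b = (TS hF x y)⁻¹ * g * TS hF x y from Subtype.ext hab.symm]; exact hk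
      have e2 : pt m a b = pt m (0 : F) 0 := by
        rw [← T_zero_pt hS, ← T_zero_pt hS, T_zero, one_smul]
        exact congrArg Subtype.val e1
      obtain ⟨rfl, rfl⟩ := pt_inj e2
      refine hg1 ?_
      have h3 : (TS hF x y)⁻¹ * g * TS hF x y = 1 := Subtype.ext (hab.trans T_zero)
      rw [show g = TS hF x y * ((TS hF x y)⁻¹ * g * TS hF x y) * (TS hF x y)⁻¹ by group, h3]
      group
  have hP1 : (P : Subgroup (Cfsg.Sz F m)) ≠ ⊥ := fun e => by
    have h1 : Nat.card (U hF : Subgroup (Cfsg.Sz F m)) = 1 := by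
      rw [show (U hF : Subgroup (Cfsg.Sz F m)) = ⊥ from e, Subgroup.card_bot]
    rw [card_U hF] at h1
    have := Fintype.one_lt_card (α := F)
    nlinarith
  have heven : Even (Nat.card (U hF : Subgroup (Cfsg.Sz F m))) := by
    rw [card_U hF, hF, ← pow_mul]
    exact Nat.even_pow.2 ⟨even_two, by omega⟩
  obtain ⟨i, hiU, hi⟩ := CfsgLib.Invol.exists_invol_mem heven
  obtain ⟨a, b, hab⟩ := hiU
  refine ⟨_, se_of_fix_unique (a := inf) (i := i) (g := WS hF) hi ?_ (fun e => inf_ne_zero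
    ((congrArg Subtype.val e).symm.trans W_inf)) fun t ht b c hb hc => fix_unique_of_sylow P hfree ht hb hc⟩
  refine Subtype.ext ?_
  show (i : SL(4, F)) • Cfsg.suzukiPointInfinity F = _
  rw [hab, T_inf]

open Matrix CfsgLib.SU CfsgLib.Classical CfsgLib.Bender.Suzuki in
theorem se_psu {F : Type} [Field F] [Fintype F] {n : ℕ} (hn : 2 ≤ n) (hF : Fintype.card F = (2 ^ n) ^ 2) :
    ∃ M : Subgroup (Cfsg.PSU 3 F (2 ^ n)), Cfsg.IsStronglyEmbedded M := by
  classical
  haveI : Fact (Nat.Prime 2) := ⟨Nat.prime_two⟩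
  haveI : CharP F 2 := charP_of_card_eq_prime_pow (f := n * 2) (by rw [hF, ← pow_mul])
  obtain ⟨C⟩ := uctx_exists hF
  obtain ⟨P⟩ := C.exists_pair (n := 3) (by norm_num)
  obtain ⟨b, hb, hbb, -⟩ := P.exists_basis
  have huu : C.form (b 0) (b 0) = 1 := by rw [hbb, if_pos rfl]
  obtain ⟨U, hU⟩ := P.exists_unital
  have hcard : Nat.card P.eichGroup = 2 ^ (3 * n) := by
    rw [U.card_eq (q := 2 ^ n) (by rw [Nat.card_eq_fintype_card, hF]), ← pow_mul, mul_comm]
  have hsu : Nat.card ↥(Cfsg.SU 3 F (2 ^ n)) =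
      2 ^ (3 * n) * (((2 ^ n) ^ 2 - 1) * ((2 ^ n) ^ 3 + 1)) := by
    rw [card_su_three C hF, ← pow_mul 2 n 3, mul_comm n 3]
  have hodd := odd_cofactor (q := 2 ^ n) (Nat.even_pow.2 ⟨even_two, by omega⟩) (by positivity)
  let P₀ : Sylow 2 ↥(Cfsg.SU 3 F (2 ^ n)) := Sylow.ofCard P.eichGroup (by
    rw [hcard, hsu, Nat.factorization_mul (by positivity) (by
        intro h0; rw [h0] at hodd; simp at hodd), Finsupp.add_apply,
      Nat.Prime.factorization_pow Nat.prime_two, Finsupp.single_eq_same,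
      Nat.factorization_eq_zero_of_not_dvd hodd.not_two_dvd_nat, add_zero])
  let P₁ : Sylow 2 (Cfsg.PSU 3 F (2 ^ n)) := P₀.mapSurjective (f := pr) (QuotientGroup.mk'_surjective _)
  set pe := upt C P.e P.ee P.e_ne_zero
  set pf := upt C P.f P.ff P.f_ne_zero
  have hXpe : ∀ X ∈ P.eichGroup, pr X • pe = pe := by
    rintro _ ⟨w, hw, s, hs, rfl⟩
    rw [smul_upt, upt_eq_iff C le_rfl]
    exact ⟨1, by rw [one_smul, P.eich_e]⟩
  have hfree : ∀ g ∈ (P₁ : Subgroup (Cfsg.PSU 3 F (2 ^ n))), g ≠ 1 → ∀ c : UPoint C 3, g • c = c → c = pe := by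
    rintro g ⟨X, hX, rfl⟩ hg1 c hc
    obtain ⟨x, hx, hx0, rfl⟩ := upt_surj C c
    by_cases he : C.form x P.e = 0
    · exact (upt_eq_iff C le_rfl hx hx0 P.ee P.e_ne_zero).2 ⟨_, isotropic_eq_of_orth P (hb 0) huu hx he⟩
    exfalso
    obtain ⟨w, hw, s, hs, hxw⟩ := P.exists_eich_point hx he
    set Y := P.eich w hw s hs
    have hYX : Y⁻¹ * X * Y ∈ P.eichGroup :=
      mul_mem (mul_mem (inv_mem (P.eich_mem w hw s hs)) hX) (P.eich_mem w hw s hs)
    have hYpf : upt C x hx hx0 = pr Y • pf := by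
      rw [smul_upt, upt_eq_iff C le_rfl]
      exact ⟨_, hxw⟩
    have hfix : pr (Y⁻¹ * X * Y) • pf = pf := by
      rw [map_mul, map_mul, map_inv, mul_smul, mul_smul, ← hYpf, hc, hYpf, inv_smul_smul]
    obtain ⟨w', hw', s', hs', e⟩ := hYX
    rw [e, smul_upt, upt_eq_iff C le_rfl, P.eich_f] at hfix
    obtain ⟨l, hl⟩ := hfix
    have h1 := congrArg (fun v => C.form v P.e) hl
    simp only [C.form_add_left, C.form_smul_left, P.fe, hw'.1, P.ee, mul_zero, add_zero, mul_one] at h1
    subst h1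
    rw [one_smul] at hl
    have h2 := congrArg (fun v => C.form v P.f) hl
    simp only [C.form_add_left, C.form_smul_left, P.ff, hw'.2, P.ef, mul_zero, add_zero, zero_add, mul_one] at h2
    subst h2
    rw [zero_smul, add_zero] at hl
    obtain rfl : w' = 0 := by simpa using hl
    refine hg1 ?_
    have h3 : Y⁻¹ * X * Y = 1 := by
      rw [e]
      refine su_ext fun y => ?_
      rw [su_one_mulVec, P.eich_mulVec]
      simp [C.form_zero_right]
    rw [show X = Y * (Y⁻¹ * X * Y) * Y⁻¹ by group, h3, mul_one, mul_inv_cancel, map_one]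
  have heven : Even (Nat.card (P₁ : Subgroup (Cfsg.PSU 3 F (2 ^ n)))) := by
    have hdvd : 2 ∣ Nat.card (Cfsg.PSU 3 F (2 ^ n)) := by
      have h := Subgroup.card_eq_card_quotient_mul_card_subgroup (Subgroup.center ↥(Cfsg.SU 3 F (2 ^ n)))
      rw [hsu, C.card_center_su hF le_rfl] at h
      have h2 : 2 ∣ 2 ^ (3 * n) * (((2 ^ n) ^ 2 - 1) * ((2 ^ n) ^ 3 + 1)) :=
        dvd_mul_of_dvd_left (dvd_pow_self 2 (by omega)) _
      rw [h] at h2
      refine (Nat.prime_two.dvd_mul.1 h2).resolve_right fun h3 => ?_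
      have := Nat.le_of_dvd (by norm_num) (h3.trans (Nat.gcd_dvd_left _ _))
      have h4 := h3.trans (Nat.gcd_dvd_left _ _)
      norm_num at h4
    exact even_iff_two_dvd.2 (P₁.dvd_card_of_dvd_card hdvd)
  obtain ⟨i, hiU, hi⟩ := CfsgLib.Invol.exists_invol_mem heven
  obtain ⟨X, hX, rfl⟩ := hiU
  refine ⟨_, se_of_fix_unique (a := pe) (i := pr X) (g := pr (swapSU P)) hi (hXpe X hX) (fun e => ?_)
    fun t ht b c hb hc => fix_unique_of_sylow P₁ hfree ht hb hc⟩
  rw [smul_upt, upt_eq_iff C le_rfl] at e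
  obtain ⟨l, hl⟩ := e
  rw [swapSU_e] at hl
  have h := congrArg (fun z => C.form z P.e) hl
  simp only [P.fe, C.form_smul_left, P.ee, mul_zero] at h
  exact one_ne_zero h

/-- Transport along an isomorphism. -/
theorem se_map {G' : Type*} [Group G'] [Finite G'] (e : G' ≃* G) (h : ∃ M : Subgroup G, Cfsg.IsStronglyEmbedded M) :
    ∃ M : Subgroup G', Cfsg.IsStronglyEmbedded M := by
  obtain ⟨M, hM⟩ := h
  have hcard : ∀ (A : Subgroup G), Nat.card (A.comap e.toMonoidHom) = Nat.card A := fun A =>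
    Nat.card_congr
      { toFun := fun x => ⟨e x.1, x.2⟩
        invFun := fun x => ⟨e.symm x.1, by show e (e.symm x.1) ∈ A; rw [e.apply_symm_apply]; exact x.2⟩
        left_inv := fun x => Subtype.ext (e.symm_apply_apply _)
        right_inv := fun x => Subtype.ext (e.apply_symm_apply _) }
  refine ⟨M.comap e.toMonoidHom, (CfsgLib.Invol.stronglyEmbedded_iff ?_ ?_).2 fun t ht hto g hg => ?_⟩
  · intro htop
    refine hM.1 (eq_top_iff.2 fun x _ => ?_)
    have : e.symm x ∈ M.comap e.toMonoidHom := htop ▸ Subgroup.mem_top _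
    simpa using this
  · rw [hcard]; exact hM.2.1
  · refine CfsgLib.Invol.mem_of_conj_mem hM (t := e t) (g := e g) ht (by rw [MulEquiv.orderOf_eq, hto]) ?_
    have : e (g * t * g⁻¹) ∈ M := hg
    simpa using this

end CfsgLib.Bender.Binary
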