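import Cfsg.Agent.Lib.Bender.Binary.Forward
import Cfsg.Agent.Lib.Bender.Binary.Converse
import Cfsg.Agent.Lib.Bender.Binary.Models
import Cfsg.Agent.Lib.Classical.SL2Sylow

/-!
# Binary coset actions with one class of involutions
-/

set_option autoImplicit false
set_option linter.unusedSectionVars false
set_option linter.style.haveILetI false

namespace CfsgLib.Bender.Binary

universe u

variable {G : Type u} [Group G] [Finite G] [IsSimpleGroup G]

theorem center_map_of_comm (P : Subgroup G) (h : ∀ x ∈ P, ∀ y ∈ P, x * y = y * x) :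
    (Subgroup.center P).map P.subtype = P :=
  le_antisymm (fun _ ⟨y, _, e⟩ => e ▸ y.2) fun x hx =>
    ⟨⟨x, hx⟩, Subgroup.mem_center_iff.2 fun y => Subtype.ext (h y y.2 x hx), rfl⟩

theorem sylow_comm {F : Type} [Field F] [Fintype F] [CharP F 2] (e : G ≃* Matrix.SpecialLinearGroup (Fin 2) F)
    (P : Sylow 2 G) : ∀ x ∈ (P : Subgroup G), ∀ y ∈ (P : Subgroup G), x * y = y * x := by
  classical
  haveI : Fact (Nat.Prime 2) := ⟨Nat.prime_two⟩
  let P' : Sylow 2 (Matrix.SpecialLinearGroup (Fin 2) F) := P.mapSurjective (f := e.toMonoidHom) e.surjective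
  obtain ⟨g, hg⟩ := CfsgLib.Classical.sl_sylow_conj 2 P'
  intro x hx y hy
  obtain ⟨u, hu⟩ := (hg (e x)).1 ⟨x, hx, rfl⟩
  obtain ⟨v, hv⟩ := (hg (e y)).1 ⟨y, hy, rfl⟩
  have h1 : Commute (g⁻¹ * Matrix.SpecialLinearGroup.toGL (e x) * g) (g⁻¹ * Matrix.SpecialLinearGroup.toGL (e y) * g) :=
    hu ▸ hv ▸ (Commute.all u v).map _
  have h2 : Commute (Matrix.SpecialLinearGroup.toGL (e x)) (Matrix.SpecialLinearGroup.toGL (e y)) := by
    have := (Commute.conj_iff g).2 h1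
    simpa [mul_assoc] using this
  refine e.injective ?_
  rw [map_mul, map_mul]
  exact Matrix.SpecialLinearGroup.toGL_injective (by rw [map_mul, map_mul]; exact h2.eq)

theorem main (hone : ∀ s t : G, orderOf s = 2 → orderOf t = 2 → IsConj s t) {H : Subgroup G} (hH : H ≠ ⊤)
    (heven : Even (Nat.card H)) :
    Bin G (G ⧸ H) ↔
      (((∃ (F : Type) (_ : Field F) (_ : Fintype F) (a : ℕ), 2 ≤ a ∧ Fintype.card F = 2 ^ a ∧
          Nonempty (G ≃* Matrix.SpecialLinearGroup (Fin 2) F)) ∧ ∃ P : Sylow 2 G, H = P) ∨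
        (Cfsg.Lie.IsoSuzuki G ∧ ∃ P : Sylow 2 G, H = (Subgroup.center (P : Subgroup G)).map (P : Subgroup G).subtype) ∨
        ((∃ (F : Type) (_ : Field F) (_ : Fintype F) (a : ℕ), 2 ≤ a ∧ Fintype.card F = (2 ^ a) ^ 2 ∧
            Nonempty (G ≃* Cfsg.PSU 3 F (2 ^ a))) ∧
          ∃ P : Sylow 2 G, H = (Subgroup.center (P : Subgroup G)).map (P : Subgroup G).subtype)) := by
  refine ⟨forward hone hH heven, ?_⟩
  rintro (⟨⟨F, i1, i2, a, ha, hF, ⟨e⟩⟩, P, rfl⟩ | ⟨⟨F, i1, i2, m, hm, hF, ⟨e⟩⟩, P, rfl⟩ |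
    ⟨⟨F, i1, i2, a, ha, hF, ⟨e⟩⟩, P, rfl⟩)
  · haveI : CharP F 2 := CfsgLib.Bender.Suzuki.charTwo_of_card hF
    obtain ⟨M, hM⟩ := se_map e se_sl_two
    have h := bin_center hM P
    rwa [center_map_of_comm _ (sylow_comm e P)] at h
  · haveI : Fact (Nat.Prime 2) := ⟨Nat.prime_two⟩
    haveI : CharP F 2 := charP_of_card_eq_prime_pow (f := 2 * m + 1) hF
    obtain ⟨e'⟩ := CfsgLib.Lie.Suz.exists_twEquiv (F := F) hm hF
    obtain ⟨M, hM⟩ := se_map (e.trans e'.symm) (se_sz hm hF)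
    exact bin_center hM P
  · obtain ⟨M, hM⟩ := se_map e (se_psu ha hF)
    exact bin_center hM P

end CfsgLib.Bender.Binary
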