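import Cfsg.Agent.Lib.Bender.Binary.Lin

/-!
# Binary actions over a rank one setting: no odd part

An element outside `Q` in the stabiliser forces all of `Q` into it, and this is impossible by counting.
-/

set_option autoImplicit false
set_option linter.unusedSectionVars false
set_option linter.style.haveILetI false

namespace CfsgLib.Bender.Binary

open MulAction CfsgLib.RootSub.Setup CfsgLib.Bender.Suzuki

variable {G Ω α : Type*} [Group G] [Finite G] [MulAction G Ω] [MulAction G α]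
variable {a : Ω} {t : G} {Q E K : Subgroup G} {s r : G}
variable {V : Type*} [AddCommGroup V] (L : Lin a t Q E V) (S : Setting a t Q E K s r)
variable [Finite α] [Finite V] {p : α} (hp : ∀ e ∈ E, e • p = p) (hM : ∀ f : G, f • p = p → f • a = a) (hB : Bin G α)

namespace Lin

include L S

/-- A nontrivial element outside `Q` in the stabiliser puts `Q` there. -/
theorem Q_fix_of_notMem {f : G} (hfp : f • p = p) (hfQ : f ∉ Q) (hp : ∀ e ∈ E, e • p = p)
    (hM : ∀ f : G, f • p = p → f • a = a) (hB : Bin G α) : ∀ y ∈ Q, y • p = p := by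
  obtain ⟨z, hz, δ, hδ, rfl⟩ := decompM S (hM f hfp)
  have hδ1 : δ ≠ 1 := fun e => hfQ (by rw [e, mul_one]; exact hz)
  -- move `p` so that `δ` fixes it
  obtain ⟨x, hx⟩ := Finite.surjective_of_injective (f := fun x => x + L.act δ x)
    (fun x x' e => L.one_add_inj S hδ hδ1 e) (L.π z)
  obtain ⟨y, hy, hyx⟩ := L.surj x
  have hq := mul_mem (inv_mem hy) (conjQ S hδ hy)
  have hE : y⁻¹ * (δ * y * δ⁻¹) * z⁻¹ ∈ E := by
    rw [← L.zero_iff _ (mul_mem hq (inv_mem hz)), L.mul _ hq _ (inv_mem hz), L.mul _ (inv_mem hy) _ (conjQ S hδ hy),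
      L.pi_inv S hy, L.conj δ hδ y hy, L.pi_inv S hz, hyx, show x + L.act δ x = L.π z from hx, L.two S]
  have hδp : δ • y • p = y • p := by
    rw [← mul_smul, ← inv_smul_eq_iff, ← mul_smul,
      show y⁻¹ * (δ * y) = (y⁻¹ * (δ * y * δ⁻¹) * z⁻¹) * (z * δ) by group, mul_smul, hfp, hp _ hE]
  have hp' : ∀ e ∈ E, e • y • p = y • p := fun e he => by
    rw [← mul_smul, (S.base.e_comm e he y hy).eq, mul_smul, hp e he]
  have hM' : ∀ g : G, g • y • p = y • p → g • a = a := fun g hg => by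
    have h := hM (y⁻¹ * g * y) (by rw [mul_smul, mul_smul, hg, inv_smul_smul])
    rwa [mul_smul, fix_a S.rank hy, mul_smul, inv_smul_eq_iff, fix_a S.rank hy] at h
  have hall := L.triple S hp' hB hδ hδ1 hδp fun _ _ _ g hg _ => hM' g hg
  intro w hw
  have h := hall (y * w * y⁻¹) (mul_mem (mul_mem hy hw) (inv_mem hy))
  rw [mul_smul, mul_smul, inv_smul_smul] at h
  exact smul_left_cancel _ h

/-- An element of the stabiliser of `a` outside `Q` fixes at most `|E|` other points. -/
theorem ncard_fixed_le {f : G} (hfa : f • a = a) (hfQ : f ∉ Q) :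
    {c : Ω | f • c = c ∧ c ≠ a}.ncard ≤ Nat.card E := by
  classical
  rcases Set.eq_empty_or_nonempty {c : Ω | f • c = c ∧ c ≠ a} with h | ⟨c₀, hc₀, hc₀a⟩
  · rw [h, Set.ncard_empty]; exact Nat.zero_le _
  obtain ⟨w, hw, rfl⟩ := exists_Q S.rank hc₀a
  obtain ⟨z, hz, δ, hδ, rfl⟩ := decompM S hfa
  have hδ1 : δ ≠ 1 := fun e => hfQ (by rw [e, mul_one]; exact hz)
  have key : ∀ y ∈ Q, (z * δ) • y • t • a = y • t • a → L.π y + L.act δ (L.π y) = L.π z := by
    intro y hy h
    have hq := mul_mem (mul_mem (inv_mem hy) hz) (conjQ S hδ hy)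
    have h1 : y⁻¹ * z * (δ * y * δ⁻¹) = 1 := by
      refine eq_one_of_fix S.rank hq (ta_ne S.rank) ?_
      conv_lhs => rw [← show δ • t • a = t • a from hδ.2]
      rw [← mul_smul _ δ, show y⁻¹ * z * (δ * y * δ⁻¹) * δ = y⁻¹ * (z * δ * y) by group, mul_smul, mul_smul,
        h, inv_smul_smul]
    have h2 := congrArg L.π h1
    rw [L.pi_one S, L.mul _ (mul_mem (inv_mem hy) hz) _ (conjQ S hδ hy), L.mul _ (inv_mem hy) z hz,
      L.pi_inv S hy, L.conj δ hδ y hy, add_right_comm] at h2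
    rw [eq_neg_of_add_eq_zero_left h2, L.neg_eq S]
  haveI := finite_points S.rank
  calc {c : Ω | (z * δ) • c = c ∧ c ≠ a}.ncard ≤ ((fun e => w • e • t • a) '' (E : Set G)).ncard := by
        refine Set.ncard_le_ncard ?_
        rintro c ⟨hc, hca⟩
        obtain ⟨y, hy, rfl⟩ := exists_Q S.rank hca
        have h1 : L.π y = L.π w := L.one_add_inj S hδ hδ1 ((key y hy hc).trans (key w hw hc₀).symm)
        refine ⟨w⁻¹ * y, ?_, by simp only; rw [← mul_smul, mul_inv_cancel_left]⟩
        show w⁻¹ * y ∈ E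
        rw [← L.zero_iff _ (mul_mem (inv_mem hw) hy), L.mul _ (inv_mem hw) y hy, L.pi_inv S hw, h1, L.two S]
    _ ≤ (E : Set G).ncard := Set.ncard_image_le
    _ = Nat.card E := by rw [← Nat.card_coe_set_eq]; rfl

theorem card_D_lt (hne : ∃ x : V, x ≠ 0) : Nat.card (pairStab a t) < Nat.card V := by
  classical
  obtain ⟨x, hx⟩ := hne
  have hinj : Function.Injective fun δ : pairStab a t => L.act δ x := fun δ δ' e => by
    by_contra hne'
    have hmem : (δ' : G)⁻¹ * δ ∈ pairStab a t := mul_mem (inv_mem δ'.2) δ.2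
    refine hx (L.fpf _ hmem (fun h => hne' (Subtype.ext (inv_mul_eq_one.1 h).symm)) x ?_)
    rw [L.act_mul S (inv_mem δ'.2) δ.2, show L.act δ x = L.act δ' x from e,
      ← L.act_mul S (inv_mem δ'.2) δ'.2, inv_mul_cancel, L.act_one S]
  letI := Fintype.ofFinite (pairStab a t)
  letI := Fintype.ofFinite V
  rw [Nat.card_eq_fintype_card, Nat.card_eq_fintype_card]
  refine Fintype.card_lt_of_injective_of_notMem _ hinj (b := 0) ?_
  rintro ⟨δ, hδ⟩
  exact hx (L.act_inj S δ.2 (hδ.trans (L.act_zero S δ.2).symm))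

theorem card_Q : Nat.card Q = Nat.card V * Nat.card E := by
  let π' : Q →* Multiplicative V := MonoidHom.mk' (fun y => Multiplicative.ofAdd (L.π y))
    fun y z => congrArg Multiplicative.ofAdd (L.mul y y.2 z z.2)
  have hsurj : Function.Surjective π' := fun x => by
    obtain ⟨y, hy, e⟩ := L.surj (Multiplicative.toAdd x)
    exact ⟨⟨y, hy⟩, congrArg Multiplicative.ofAdd e⟩
  have hker : π'.ker = E.subgroupOf Q := by
    ext y
    rw [MonoidHom.mem_ker, Subgroup.mem_subgroupOf, ← L.zero_iff y y.2]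
    exact Iff.rfl
  rw [← Subgroup.card_mul_index π'.ker, Subgroup.index_ker, MonoidHom.range_eq_top.2 hsurj, Subgroup.card_top,
    hker, Nat.card_congr (Subgroup.subgroupOfEquivOfLe S.base.le).toEquiv, mul_comm]
  rfl

include hp hM hB in
/-- The stabiliser does not contain all of `Q`. -/
theorem not_Q_fix (hne : ∃ x : V, x ≠ 0) : ∃ y ∈ Q, y • p ≠ p := by
  classical
  by_contra hcon
  push Not at hcon
  haveI := finite_points S.rank
  haveI : IsPretransitive G Ω := by
    haveI := S.rank.two_transitive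
    exact isPretransitive_of_is_two_pretransitive
  letI := Fintype.ofFinite Ω
  letI := Fintype.ofFinite α
  set o := t • a with ho
  set D := pairStab a t with hD
  -- for each point, the element of the conjugate of `Q` moving `a` to `o`
  choose g hg using fun c : Ω => exists_smul_eq G a c
  have hx : ∀ c, c ≠ a → c ≠ o → ∃ z ∈ Q, (g c * z * (g c)⁻¹) • a = o := by
    intro c hca hco
    have h1 : (g c)⁻¹ • a ≠ a := fun e => hca ((hg c).symm.trans (inv_smul_eq_iff.1 e).symm)
    have h2 : (g c)⁻¹ • o ≠ a := fun e => hco (by rw [← hg c]; exact (inv_smul_eq_iff.1 e).symm)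
    obtain ⟨z, hz, -⟩ := regular S.rank h1 h2
    exact ⟨z, z.2, by rw [mul_smul, mul_smul, hz, smul_inv_smul]⟩
  choose z hzQ hz using hx
  let Pts : Finset Ω := Finset.univ.filter fun c => c ≠ a ∧ c ≠ o
  have hPts : ∀ c ∈ Pts, c ≠ a ∧ c ≠ o := fun c hc => (Finset.mem_filter.1 hc).2
  let b : Ω → α := fun c => if h : c ≠ a ∧ c ≠ o then (g c * z c h.1 h.2 * (g c)⁻¹) • p else p
  let B : Finset α := Finset.univ.filter fun q => ∃ δ ∈ D, t • δ • p = q
  set m := Nat.card ↥(stabilizer D p) with hm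
  have hmaps : ∀ c ∈ Pts, b c ∈ B := by
    intro c hc
    obtain ⟨hca, hco⟩ := hPts c hc
    simp only [b, dif_pos (And.intro hca hco)]
    set x := g c * z c hca hco * (g c)⁻¹
    refine Finset.mem_filter.2 ⟨Finset.mem_univ _, ?_⟩
    obtain ⟨w, hw, δ, hδ, e⟩ := decompM S (show (t * x) • a = a by rw [mul_smul, hz c hca hco, ho, t_t S.rank])
    refine ⟨δ, hδ, ?_⟩
    rw [show x = t * δ * (δ⁻¹ * w * δ) by
      rw [mul_assoc, show δ * (δ⁻¹ * w * δ) = w * δ by group, ← e, ← mul_assoc, S.rank.mul_self, one_mul],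
      mul_smul (t * δ), hcon (δ⁻¹ * w * δ) (by simpa using conjQ S (inv_mem hδ) hw), mul_smul]
  have hBcard : B.card * m = Nat.card D := by
    have h1 : B.card = Nat.card (orbit D p) := by
      rw [← Set.ncard_coe_finset, ← Nat.card_coe_set_eq]
      refine Nat.card_congr ((Equiv.setCongr ?_).trans ((MulAction.toPerm t).image _).symm)
      ext q
      simp only [B, Finset.coe_filter, Finset.mem_univ, true_and, Set.mem_image]
      constructor
      · rintro ⟨δ, hδ, rfl⟩
        exact ⟨δ • p, ⟨⟨δ, hδ⟩, rfl⟩, rfl⟩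
      · rintro ⟨_, ⟨δ, rfl⟩, rfl⟩
        exact ⟨δ, δ.2, rfl⟩
    rw [h1, Nat.card_congr (orbitEquivQuotientStabilizer D p), hm, ← Subgroup.index_eq_card, mul_comm,
      Subgroup.card_mul_index]
  have hfib : ∀ q ∈ B, (Pts.filter fun c => b c = q).card ≤ m * Nat.card E := by
    intro q _
    rcases (Pts.filter fun c => b c = q).eq_empty_or_nonempty with h | ⟨c₀, hc₀⟩
    · rw [h]; exact Nat.zero_le _
    obtain ⟨hc₀P, hc₀q⟩ := Finset.mem_filter.1 hc₀
    obtain ⟨hc₀a, hc₀o⟩ := hPts c₀ hc₀P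
    simp only [b, dif_pos (And.intro hc₀a hc₀o)] at hc₀q
    set g₀ := g c₀ with hg₀
    set x₀ := g₀ * z c₀ hc₀a hc₀o * g₀⁻¹ with hx₀
    let S₀ : Finset G := (Set.toFinite {k : G | k • p = p ∧ k • c₀ = c₀}).toFinset
    have hS₀1 : (1 : G) ∈ S₀ := (Set.Finite.mem_toFinset _).2 ⟨one_smul _ _, one_smul _ _⟩
    have hS₀ : S₀.card ≤ m := by
      obtain ⟨y, hy, hyc⟩ := exists_Q S.rank hc₀a
      have hmem : ∀ k ∈ S₀, y⁻¹ * k * y ∈ D ∧ (y⁻¹ * k * y) • p = p := fun k hk => by
        obtain ⟨hkp, hkc⟩ := (Set.Finite.mem_toFinset _).1 hk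
        refine ⟨⟨?_, ?_⟩, ?_⟩
        · show (y⁻¹ * k * y) • a = a
          rw [mul_smul, fix_a S.rank hy, mul_smul, hM k hkp, fix_a S.rank (inv_mem hy)]
        · show (y⁻¹ * k * y) • t • a = t • a
          rw [mul_smul, hyc, mul_smul, hkc, ← hyc, inv_smul_smul]
        · rw [mul_smul, hcon y hy, mul_smul, hkp, hcon _ (inv_mem hy)]
      rw [hm, ← Fintype.card_coe S₀, ← Nat.card_eq_fintype_card]
      refine Nat.card_le_card_of_injective
        (fun k => (⟨⟨y⁻¹ * k.1 * y, (hmem k.1 k.2).1⟩, (hmem k.1 k.2).2⟩ : stabilizer D p)) ?_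
      intro k k' e
      have := congrArg (fun u : stabilizer D p => ((u : D) : G)) e
      exact Subtype.ext (mul_left_cancel (mul_right_cancel this))
    have hsub : Pts.filter (fun c => b c = q) ⊆
        insert c₀ ((S₀.erase 1).biUnion fun k => Finset.univ.filter fun c => (x₀ * k) • c = c ∧ c ≠ c₀) := by
      intro c hc
      obtain ⟨hcP, hcq⟩ := Finset.mem_filter.1 hc
      obtain ⟨hca, hco⟩ := hPts c hcP
      simp only [b, dif_pos (And.intro hca hco)] at hcq
      rw [Finset.mem_insert, Finset.mem_biUnion]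
      by_cases hcc : c = c₀
      · exact Or.inl hcc
      right
      set x := g c * z c hca hco * (g c)⁻¹
      have hfix : ∀ d, d ≠ a → g d • p ≠ p := fun d hda e => hda ((hg d).symm.trans (hM _ e))
      have hxfix : ∀ d w, w ∈ Q → (g d * w * (g d)⁻¹) • g d • p = g d • p := fun d w hw => by
        rw [mul_smul, mul_smul, inv_smul_smul, hcon w hw]
      let φ : α → α := fun u => if u = p then q else u
      have hφp : φ p = q := if_pos rfl
      have hφ0 : φ (g₀ • p) = g₀ • p := if_neg (hfix c₀ hc₀a)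
      have hφc : φ (g c • p) = g c • p := if_neg (hfix c hca)
      obtain ⟨f, hf⟩ := hB.ext {p, g₀ • p, g c • p} φ (by
        intro u hu u' hu'
        rcases hu with rfl | rfl | rfl <;> rcases hu' with rfl | rfl | rfl
        · exact ⟨x₀, by rw [hφp, hc₀q], by rw [hφp, hc₀q]⟩
        · exact ⟨x₀, by rw [hφp, hc₀q], by rw [hφ0]; exact hxfix c₀ _ (hzQ c₀ hc₀a hc₀o)⟩
        · exact ⟨x, by rw [hφp, hcq], by rw [hφc]; exact hxfix c _ (hzQ c hca hco)⟩
        · exact ⟨x₀, by rw [hφ0]; exact hxfix c₀ _ (hzQ c₀ hc₀a hc₀o), by rw [hφp, hc₀q]⟩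
        · exact ⟨1, by rw [hφ0, one_smul], by rw [hφ0, one_smul]⟩
        · exact ⟨1, by rw [hφ0, one_smul], by rw [hφc, one_smul]⟩
        · exact ⟨x, by rw [hφc]; exact hxfix c _ (hzQ c hca hco), by rw [hφp, hcq]⟩
        · exact ⟨1, by rw [hφc, one_smul], by rw [hφ0, one_smul]⟩
        · exact ⟨1, by rw [hφc, one_smul], by rw [hφc, one_smul]⟩)
      have hstab : ∀ d, f • g d • p = g d • p → f • d = d := fun d h => by
        have h1 := hM ((g d)⁻¹ * f * g d) (by rw [mul_smul, mul_smul, h, inv_smul_smul])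
        rwa [mul_smul, hg, mul_smul, inv_smul_eq_iff, hg] at h1
      have hfc₀ : f • c₀ = c₀ := hstab c₀ ((hf _ (Or.inr (Or.inl rfl))).trans hφ0)
      have hfc : f • c = c := hstab c ((hf _ (Or.inr (Or.inr rfl))).trans hφc)
      have hx₀c : x₀⁻¹ • c₀ = c₀ := by
        rw [inv_smul_eq_iff, eq_comm, hx₀, mul_smul, mul_smul, show g₀⁻¹ • c₀ = a from inv_smul_eq_iff.2 (hg c₀).symm,
          fix_a S.rank (hzQ c₀ hc₀a hc₀o), hg₀, hg]
      have hk : x₀⁻¹ * f ∈ S₀ := (Set.Finite.mem_toFinset _).2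
        ⟨by rw [mul_smul, hf p (Or.inl rfl), hφp, ← hc₀q, inv_smul_smul], by rw [mul_smul, hfc₀, hx₀c]⟩
      refine ⟨x₀⁻¹ * f, Finset.mem_erase.2 ⟨?_, hk⟩,
        Finset.mem_filter.2 ⟨Finset.mem_univ _, by rw [mul_inv_cancel_left]; exact hfc, hcc⟩⟩
      intro h1
      rw [inv_mul_eq_one] at h1
      rw [← h1] at hfc
      have h2 : g₀⁻¹ • c ≠ a := fun e => hcc (by rw [← hg c₀]; exact inv_smul_eq_iff.1 e)
      have h3 := eq_one_of_fix S.rank (hzQ c₀ hc₀a hc₀o) h2 (by
        rw [eq_inv_smul_iff, ← mul_smul, ← mul_smul]; exact hfc)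
      refine ta_ne S.rank ?_
      have := hz c₀ hc₀a hc₀o
      rw [h3, mul_one, mul_inv_cancel, one_smul] at this
      exact this.symm
    have hfixle : ∀ k ∈ S₀.erase 1,
        (Finset.univ.filter fun c => (x₀ * k) • c = c ∧ c ≠ c₀).card ≤ Nat.card E := by
      intro k hk
      obtain ⟨hk1, hkS⟩ := Finset.mem_erase.1 hk
      obtain ⟨hkp, hkc⟩ := (Set.Finite.mem_toFinset _).1 hkS
      set f' := z c₀ hc₀a hc₀o * (g₀⁻¹ * k * g₀)
      have hconj : ∀ c : Ω, (x₀ * k) • c = c ↔ f' • g₀⁻¹ • c = g₀⁻¹ • c := fun c => by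
        rw [show x₀ * k = g₀ * f' * g₀⁻¹ by simp only [f', hx₀]; group, mul_smul, mul_smul]
        exact eq_inv_smul_iff.symm
      have hk'a : (g₀⁻¹ * k * g₀) • a = a := by
        rw [mul_smul, hg₀, hg, mul_smul, hkc, inv_smul_eq_iff, hg]
      have hfa : f' • a = a := by rw [mul_smul, hk'a, fix_a S.rank (hzQ c₀ hc₀a hc₀o)]
      have hfQ : f' ∉ Q := by
        intro h
        have hk'Q : g₀⁻¹ * k * g₀ ∈ Q := by simpa [f'] using mul_mem (inv_mem (hzQ c₀ hc₀a hc₀o)) h
        have h2 : g₀⁻¹ • a ≠ a := fun e => hc₀a ((hg c₀).symm.trans (inv_smul_eq_iff.1 e).symm)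
        have h3 := eq_one_of_fix S.rank hk'Q h2 (by
          rw [eq_inv_smul_iff, ← mul_smul, ← mul_smul]
          simp only [mul_assoc, mul_inv_cancel, mul_one, mul_inv_cancel_left]
          exact hM k hkp)
        exact hk1 (by rw [show k = g₀ * (g₀⁻¹ * k * g₀) * g₀⁻¹ by group, h3]; group)
      refine le_trans ?_ (L.ncard_fixed_le S hfa hfQ)
      rw [← Set.ncard_coe_finset, ← Set.ncard_image_of_injective _ (MulAction.injective g₀⁻¹)]
      refine Set.ncard_le_ncard ?_
      rintro _ ⟨c, hc, rfl⟩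
      obtain ⟨-, hc1, hc2⟩ := Finset.mem_filter.1 hc
      exact ⟨(hconj c).1 hc1, fun e => hc2 (by rw [← hg c₀]; exact inv_smul_eq_iff.1 e)⟩
    calc (Pts.filter fun c => b c = q).card ≤ _ := Finset.card_le_card hsub
      _ ≤ _ := (Finset.card_insert_le _ _)
      _ ≤ (S₀.erase 1).card * Nat.card E + 1 := Nat.add_le_add_right (Finset.card_biUnion_le_card_mul _ _ _ hfixle) 1
      _ ≤ m * Nat.card E := by
        rw [Finset.card_erase_of_mem hS₀1]
        have h1 : 1 ≤ S₀.card := Finset.card_pos.2 ⟨1, hS₀1⟩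
        calc (S₀.card - 1) * Nat.card E + 1 ≤ (S₀.card - 1) * Nat.card E + Nat.card E :=
              Nat.add_le_add_left Nat.card_pos _
          _ = S₀.card * Nat.card E := by rw [← Nat.succ_mul, show (S₀.card - 1).succ = S₀.card by omega]
          _ ≤ m * Nat.card E := Nat.mul_le_mul_right _ hS₀
  have h1 := Finset.card_le_mul_card_image_of_maps_to hmaps _ hfib
  have h2 : Pts.card + 2 = Nat.card Q + 1 := by
    have hpt : Pts = ((Finset.univ : Finset Ω).erase a).erase o := by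
      ext c
      simp only [Pts, Finset.mem_filter, Finset.mem_univ, true_and, Finset.mem_erase, and_true]
      exact and_comm
    rw [hpt, Finset.card_erase_of_mem (Finset.mem_erase.2 ⟨ta_ne S.rank, Finset.mem_univ _⟩),
      Finset.card_erase_of_mem (Finset.mem_univ _), Finset.card_univ, ← Nat.card_eq_fintype_card,
      ← card_points S.rank]
    have h3 := card_points S.rank
    have : 1 < Nat.card Q := lt_of_lt_of_le (by have := S.four; omega) (Subgroup.card_le_of_le S.base.le)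
    omega
  have h3 := L.card_D_lt S hne
  have h4 := L.card_Q S
  have h5 := S.four
  have h6 : m * Nat.card E * B.card ≤ (Nat.card V - 1) * Nat.card E := by
    rw [mul_right_comm, mul_comm m]
    exact Nat.mul_le_mul_right _ (hBcard.le.trans (Nat.le_sub_one_of_lt h3))
  have h7 : (Nat.card V - 1) * Nat.card E + Nat.card E = Nat.card V * Nat.card E := by
    rw [← Nat.succ_mul, show (Nat.card V - 1).succ = Nat.card V by omega]
  omega

include hp hM hB in
/-- The stabiliser lies in `Q`. -/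
theorem mem_Q (hne : ∃ x : V, x ≠ 0) {f : G} (hf : f • p = p) : f ∈ Q := by
  by_contra h
  obtain ⟨y, hy, hyp⟩ := L.not_Q_fix S hp hM hB hne
  exact hyp (L.Q_fix_of_notMem S hf h hp hM hB y hy)

end Lin

end CfsgLib.Bender.Binary
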