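import Cfsg.Agent.Lib.Bender.Binary.Ctx
import Cfsg.Agent.Lib.Bender.Suzuki.Main

/-!
# Binary actions over a rank one setting: the coordinates for `|Q| = q ^ 3`

The elements of a simple group act linearly on the points of the unital, so the two point stabiliser
multiplies the classes of `Q` by scalars.
-/

set_option autoImplicit false
set_option linter.unusedSectionVars false
set_option linter.style.haveILetI false

namespace CfsgLib.Bender.Binary

open MulAction CfsgLib.RootSub.Setup CfsgLib.Bender.Suzuki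

variable {G Ω : Type*} [Group G] [Finite G] [MulAction G Ω]
variable {a : Ω} {t : G} {Q E K : Subgroup G} {s r : G}
variable {F : Type} [Field F] [CharP F 2] (bar : F →+* F) (φ : F × F → G)

/-- The points with their homogeneous coordinates. -/
def Rep (a : Ω) (t : G) (ω : Ω) (v : F × F × F) : Prop :=
  (ω = a ∧ ∃ c : F, c ≠ 0 ∧ v = (0, 0, c)) ∨
    ∃ z ∈ Unital.Pts bar, ω = φ z • t • a ∧ ∃ c : F, c ≠ 0 ∧ v = (c, c * z.1, c * z.2)

/-- The element acts linearly in the coordinates. -/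
def Proj (a : Ω) (t : G) (g : G) : Prop :=
  ∃ A : (F × F × F) →ₗ[F] (F × F × F), ∀ ω v, Rep bar φ a t ω v → Rep bar φ a t (g • ω) (A v)

theorem proj_closure (hgen : ∀ g : G, g ∈ Subgroup.closure ((Q : Set G) ∪ {t}))
    (hQ : ∀ y ∈ Q, Proj bar φ a t y) (ht : Proj bar φ a t t) (g : G) : Proj bar φ a t g := by
  induction hgen g using Subgroup.closure_induction with
  | mem y hy =>
    rcases hy with hy | hy
    · exact hQ y hy
    · rw [Set.mem_singleton_iff] at hy
      exact hy ▸ ht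
  | one => exact ⟨LinearMap.id, fun ω v h => by rwa [one_smul]⟩
  | mul y z _ _ ihy ihz =>
    obtain ⟨A, hA⟩ := ihy
    obtain ⟨B, hB⟩ := ihz
    exact ⟨A.comp B, fun ω v h => by rw [mul_smul]; exact hA _ _ (hB ω v h)⟩
  | inv y _ ih =>
    obtain ⟨A, hA⟩ := ih
    have hpow : ∀ n : ℕ, Proj bar φ a t (y ^ n) := by
      intro n
      induction n with
      | zero => exact ⟨LinearMap.id, fun ω v h => by rwa [pow_zero, one_smul]⟩
      | succ n ihn =>
        obtain ⟨B, hB⟩ := ihn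
        exact ⟨B.comp A, fun ω v h => by rw [pow_succ, mul_smul]; exact hB _ _ (hA ω v h)⟩
    have hinv : y⁻¹ = y ^ (orderOf y - 1) := inv_eq_of_mul_eq_one_right (by
      rw [← pow_succ', Nat.sub_add_cancel (orderOf_pos y), pow_orderOf_eq_one])
    exact hinv ▸ hpow _

variable (S : Setting a t Q E K s r) (C : EField E K s F)

/-- The facts on the coordinates used below. -/
structure UCo (a : Ω) (t : G) (Q : Subgroup G) {E K : Subgroup G} {s : G} (C : EField E K s F)
    (φ : F × F → G) : Prop where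
  mem : ∀ z ∈ Unital.Pts C.bar, φ z ∈ Q
  inj : Set.InjOn φ (Unital.Pts C.bar)
  surj : ∀ y ∈ Q, ∃ z ∈ Unital.Pts C.bar, φ z = y
  mul : ∀ z ∈ Unital.Pts C.bar, ∀ z' ∈ Unital.Pts C.bar, φ (Unital.pm C.bar z z') = φ z * φ z'
  phi_E : ∀ e ∈ E, φ (0, C.eps e) = e
  conj_K : ∀ k ∈ K, ∀ z ∈ Unital.Pts C.bar, k * φ z * k⁻¹ = φ (C.lam k * z.1, C.lam k ^ 2 * z.2)
  act : IsUnitalAction a t C.bar φ
  kernel : ∃ w ∈ Suzuki.pairStab a t, ∃ ζ : F, C.bar ζ ≠ ζ ∧ C.bar ζ = ζ⁻¹ ∧
    ∀ z ∈ Unital.Pts C.bar, w * φ z * w⁻¹ = φ (ζ * z.1, z.2)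

variable {C} {φ} (U : UCo a t Q C φ)

theorem pts_pm {z z' : F × F} (hz : z ∈ Unital.Pts C.bar) (hz' : z' ∈ Unital.Pts C.bar) :
    Unital.pm C.bar z z' ∈ Unital.Pts C.bar := by
  simp only [Unital.Pts, Unital.pm, Set.mem_ofPred_eq, map_add, map_mul, C.bar_bar] at hz hz' ⊢
  linear_combination hz + hz'

theorem pts_iff {z : F × F} : z ∈ Unital.Pts C.bar ↔ z.2 + C.bar z.2 = C.bar z.1 * z.1 := Iff.rfl

variable (C) in
theorem exists_trace : ∃ c : F, c + C.bar c ≠ 0 := by
  by_contra h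
  push Not at h
  have hfix : ∀ x : F, C.bar x = x := fun x => by
    have := h x
    rwa [CharTwo.add_eq_zero, eq_comm] at this
  haveI : Finite F := Nat.finite_of_card_ne_zero (by rw [C.card]; positivity)
  have hlt : Nat.card F ≤ Nat.card ↥E := by
    choose e he heq using fun x : F => C.eps_surj x (hfix x)
    exact Nat.card_le_card_of_injective (fun x => (⟨e x, he x⟩ : ↥E)) fun x y hxy => by
      rw [← heq x, ← heq y]
      exact congrArg (fun z : ↥E => C.eps z) hxy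
  rw [C.card, C.card_E] at hlt
  have : 2 ≤ 2 ^ C.f := le_self_pow (by omega) (by have := C.two_le; omega)
  nlinarith

variable (C) in
theorem exists_pts (u : F) : ∃ w, (u, w) ∈ Unital.Pts C.bar := by
  obtain ⟨c, hc⟩ := exists_trace C
  refine ⟨C.bar u * u * c / (c + C.bar c), ?_⟩
  rw [pts_iff, map_div₀, map_mul, map_mul, map_add, C.bar_bar, C.bar_bar, add_comm (C.bar c) c]
  field_simp

theorem zero_pts : ((0, 0) : F × F) ∈ Unital.Pts C.bar := by rw [pts_iff]; simp

namespace UCo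

include U

theorem phi_zero : φ (0, 0) = 1 := by
  have h := U.mul _ zero_pts _ zero_pts
  simp only [Unital.pm, add_zero, map_zero, mul_zero] at h
  exact left_eq_mul.1 h

theorem proj_Q {y : G} (S : Setting a t Q E K s r) (hy : y ∈ Q) : Proj C.bar φ a t y := by
  obtain ⟨z, hz, rfl⟩ := U.surj y hy
  let A : (F × F × F) →ₗ[F] (F × F × F) :=
    { toFun := fun v => (v.1, v.2.1 + z.1 * v.1, v.2.2 + C.bar z.1 * v.2.1 + z.2 * v.1)
      map_add' := fun v v' => by simp only [Prod.fst_add, Prod.snd_add, Prod.mk_add_mk, Prod.mk.injEq]; refine ⟨trivial, by ring, by ring⟩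
      map_smul' := fun c v => by
        simp only [Prod.smul_fst, Prod.smul_snd, smul_eq_mul, RingHom.id_apply, Prod.smul_mk, Prod.mk.injEq]
        refine ⟨trivial, by ring, by ring⟩ }
  refine ⟨A, ?_⟩
  rintro ω v (⟨rfl, c, hc, rfl⟩ | ⟨z', hz', rfl, c, hc, rfl⟩)
  · exact Or.inl ⟨fix_a S.rank (U.mem z hz), c, hc, by simp [A]⟩
  · refine Or.inr ⟨_, pts_pm hz hz', by rw [← mul_smul, U.mul z hz z' hz'], c, hc, ?_⟩
    simp only [A, LinearMap.coe_mk, AddHom.coe_mk, Unital.pm, Prod.mk.injEq]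
    exact ⟨trivial, by ring, by ring⟩

theorem proj_t (S : Setting a t Q E K s r) : Proj C.bar φ a t t := by
  let A : (F × F × F) →ₗ[F] (F × F × F) :=
    { toFun := fun v => (v.2.2, v.2.1, v.1)
      map_add' := fun v v' => rfl
      map_smul' := fun c v => rfl }
  refine ⟨A, ?_⟩
  rintro ω v (⟨rfl, c, hc, rfl⟩ | ⟨z, hz, rfl, c, hc, rfl⟩)
  · exact Or.inr ⟨_, zero_pts, by rw [U.phi_zero, one_smul], c, hc, by simp [A]⟩
  · by_cases hz0 : z = 0
    · subst hz0
      refine Or.inl ⟨?_, c, hc, by simp [A]⟩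
      rw [show φ (0 : F × F) = 1 from U.phi_zero, one_smul, t_t S.rank]
    · have hw : z.2 ≠ 0 := fun h0 => hz0 (by
        rw [pts_iff, h0, map_zero, add_zero, eq_comm, mul_eq_zero, map_eq_zero] at hz
        exact Prod.ext (by simpa using hz) h0)
      refine Or.inr ⟨Unital.swap z, ?_, U.act z hz hz0, c * z.2, mul_ne_zero hc hw, ?_⟩
      · rw [pts_iff] at hz ⊢
        have hb : C.bar z.2 ≠ 0 := (map_ne_zero C.bar).2 hw
        simp only [Unital.swap, map_div₀, map_inv₀]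
        field_simp
        linear_combination hz
      · simp only [A, LinearMap.coe_mk, AddHom.coe_mk, Unital.swap, Prod.mk.injEq]
        refine ⟨trivial, by field_simp, by field_simp⟩

theorem rep_unique (S : Setting a t Q E K s r) {z : F × F} (hz : z ∈ Unital.Pts C.bar) {v : F × F × F}
    (h : Rep C.bar φ a t (φ z • t • a) v) : ∃ c : F, c ≠ 0 ∧ v = (c, c * z.1, c * z.2) := by
  rcases h with ⟨e, -⟩ | ⟨z', hz', e, c, hc, rfl⟩
  · refine absurd ?_ (ta_ne S.rank)
    conv_rhs at e => rw [← fix_a S.rank (U.mem z hz)]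
    exact smul_left_cancel _ e
  · refine ⟨c, hc, ?_⟩
    have h1 := eq_one_of_fix S.rank (mul_mem (inv_mem (U.mem z' hz')) (U.mem z hz)) (ta_ne S.rank)
      (by rw [mul_smul, e, inv_smul_smul])
    rw [U.inj hz' hz (inv_mul_eq_one.1 h1)]

/-- An element of the two point stabiliser multiplies the first coordinate by a scalar. -/
theorem exists_scalar [IsSimpleGroup G] (S : Setting a t Q E K s r) {δ : G} (hδ : δ ∈ Suzuki.pairStab a t) :
    ∃ μ : F, (∀ z ∈ Unital.Pts C.bar, ∃ z' ∈ Unital.Pts C.bar, δ * φ z * δ⁻¹ = φ z' ∧ z'.1 = μ * z.1) ∧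
      (μ = 1 → δ = 1) := by
  classical
  obtain ⟨A, hA⟩ := proj_closure (bar := C.bar) (φ := φ) (fun g => (qt_top S) ▸ Subgroup.mem_top g)
    (fun y hy => U.proj_Q S hy) (U.proj_t S) δ
  have hδQ : ∀ z ∈ Unital.Pts C.bar, δ * φ z * δ⁻¹ ∈ Q := fun z hz => S.rank.conj_mem δ hδ.1 _ (U.mem z hz)
  choose im him himφ using fun z hz => U.surj _ (hδQ z hz)
  have hpt : ∀ z, ∀ hz : z ∈ Unital.Pts C.bar, δ • φ z • t • a = φ (im z hz) • t • a := fun z hz => by
    rw [himφ z hz, mul_smul, mul_smul, show δ⁻¹ • t • a = t • a from inv_smul_eq_iff.2 hδ.2.symm]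
  obtain ⟨γ, hγ, hA2⟩ : ∃ γ : F, γ ≠ 0 ∧ A (0, 0, 1) = (0, 0, γ) := by
    have h := hA a (0, 0, 1) (Or.inl ⟨rfl, 1, one_ne_zero, rfl⟩)
    rw [show δ • a = a from hδ.1] at h
    rcases h with ⟨-, c, hc, e⟩ | ⟨z, hz, e, -⟩
    · exact ⟨c, hc, e⟩
    · refine absurd ?_ (ta_ne S.rank)
      conv_lhs at e => rw [← fix_a S.rank (U.mem z hz)]
      exact (smul_left_cancel _ e).symm
  obtain ⟨α, hα, hA0⟩ : ∃ α : F, α ≠ 0 ∧ A (1, 0, 0) = (α, 0, 0) := by
    have h := hA (φ (0, 0) • t • a) (1, 0, 0) (Or.inr ⟨_, zero_pts, rfl, 1, one_ne_zero, by simp⟩)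
    rw [U.phi_zero, one_smul, show δ • t • a = t • a from hδ.2] at h
    obtain ⟨c, hc, e⟩ := U.rep_unique S zero_pts (v := A (1, 0, 0)) (by rwa [U.phi_zero, one_smul])
    exact ⟨c, hc, by simpa using e⟩
  obtain ⟨x, y, zz, hA1⟩ : ∃ x y zz : F, A (0, 1, 0) = (x, y, zz) := ⟨_, _, _, rfl⟩
  have hAv : ∀ u w : F, A (1, u, w) = (α + x * u, y * u, zz * u + γ * w) := fun u w => by
    rw [show ((1, u, w) : F × F × F) = (1, 0, 0) + u • (0, 1, 0) + w • (0, 0, 1) by simp, map_add, map_add,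
      map_smul, map_smul, hA0, hA1, hA2]
    simp only [Prod.smul_mk, smul_eq_mul, Prod.mk_add_mk, Prod.mk.injEq]
    exact ⟨by ring, by ring, by ring⟩
  have heqs : ∀ z, ∀ hz : z ∈ Unital.Pts C.bar, (α + x * z.1) * (im z hz).1 = y * z.1 ∧
      (α + x * z.1) * (im z hz).2 = zz * z.1 + γ * z.2 ∧ α + x * z.1 ≠ 0 := fun z hz => by
    have h := hA _ (1, z.1, z.2) (Or.inr ⟨z, hz, rfl, 1, one_ne_zero, by simp⟩)
    rw [hpt z hz, hAv] at h
    obtain ⟨c, hc, e⟩ := U.rep_unique S (him z hz) h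
    simp only [Prod.mk.injEq] at e
    obtain ⟨e1, e2, e3⟩ := e
    exact ⟨by rw [e1, e2], by rw [e1, e3], e1 ▸ hc⟩
  have himmul : ∀ z, ∀ hz : z ∈ Unital.Pts C.bar, ∀ z', ∀ hz' : z' ∈ Unital.Pts C.bar,
      im _ (pts_pm hz hz') = Unital.pm C.bar (im z hz) (im z' hz') := fun z hz z' hz' =>
    U.inj (him _ _) (pts_pm (him z hz) (him z' hz')) (by
      rw [himφ, U.mul z hz z' hz', U.mul _ (him z hz) _ (him z' hz'), himφ, himφ]
      group)
  have h01 : ((0, 1) : F × F) ∈ Unital.Pts C.bar := by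
    rw [pts_iff]; simp [CharTwo.add_self_eq_zero]
  have hx : x = 0 := by
    by_contra hx
    obtain ⟨w, hw⟩ := exists_pts C (1 : F)
    obtain ⟨-, e01, -⟩ := heqs _ h01
    obtain ⟨-, e1, hne⟩ := heqs _ hw
    obtain ⟨-, e2, -⟩ := heqs _ (pts_pm hw h01)
    obtain ⟨e01', -, -⟩ := heqs _ h01
    rw [himmul _ hw _ h01] at e2
    simp only [Unital.pm, mul_zero, add_zero, mul_one] at e01 e1 e2 hne e01'
    have hv0 : (im _ h01).1 = 0 := (mul_eq_zero.1 e01').resolve_left hα
    rw [hv0, mul_zero, add_zero] at e2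
    have h3 : (α + x) * (im _ h01).2 = γ := by linear_combination e2 - e1
    have h4 : x * (im _ h01).2 = 0 := by linear_combination h3 - e01
    rcases mul_eq_zero.1 h4 with h5 | h5
    · exact hx h5
    · rw [h5, mul_zero] at e01
      exact hγ (by linear_combination -e01)
  simp only [hx, zero_mul, add_zero] at heqs
  refine ⟨y / α, fun z hz => ⟨im z hz, him z hz, (himφ z hz).symm, ?_⟩, fun hμ => ?_⟩
  · obtain ⟨e1, -, -⟩ := heqs z hz
    field_simp
    linear_combination e1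
  · rw [div_eq_one_iff_eq hα] at hμ
    have him1 : ∀ z, ∀ hz : z ∈ Unital.Pts C.bar, (im z hz).1 = z.1 := fun z hz => by
      obtain ⟨e1, -, -⟩ := heqs z hz
      rw [hμ] at e1
      exact mul_left_cancel₀ hα e1
    obtain ⟨w₁, hw₁⟩ := exists_pts C (1 : F)
    have hγα : γ = α := by
      obtain ⟨-, e1, -⟩ := heqs _ hw₁
      obtain ⟨-, e2, -⟩ := heqs _ (pts_pm hw₁ hw₁)
      rw [himmul _ hw₁ _ hw₁] at e2
      simp only [Unital.pm, him1, map_one, mul_one] at e1 e2
      linear_combination -e2 + 2 * e1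
    have hzz : zz = 0 := by
      by_contra hne
      obtain ⟨c, hc⟩ := exists_trace C
      obtain ⟨w, hw⟩ := exists_pts C (c * α / zz)
      obtain ⟨-, e1, -⟩ := heqs _ hw
      have h2 := (pts_iff).1 (him _ hw)
      have h3 := (pts_iff).1 hw
      rw [him1] at h2
      have e4 : (im _ hw).2 = c + w := by
        simp only at e1
        rw [hγα] at e1
        refine mul_left_cancel₀ hα (e1.trans ?_)
        field_simp
      rw [e4, map_add] at h2
      simp only at h3 h2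
      exact hc (by linear_combination h2 - h3)
    have hfix : ∀ z, ∀ hz : z ∈ Unital.Pts C.bar, im z hz = z := fun z hz => by
      obtain ⟨-, e1, -⟩ := heqs z hz
      rw [hzz, hγα, zero_mul, zero_add] at e1
      exact Prod.ext (him1 z hz) (mul_left_cancel₀ hα e1)
    refine S.faithful δ fun b => ?_
    by_cases hb : b = a
    · rw [hb]; exact hδ.1
    · obtain ⟨q, hq, rfl⟩ := exists_Q S.rank hb
      obtain ⟨z, hz, rfl⟩ := U.surj q hq
      rw [hpt z hz, hfix z hz]

end UCo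

end CfsgLib.Bender.Binary
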